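import Mathlib
import Cfsg.Prelude.Def_SubgroupEmbedding
import Cfsg.Prelude.Def_Solvable
import Cfsg.Prelude.Def_TwoFusion
import Cfsg.Agent.Lib.Blocks.PPart
import Cfsg.Agent.Lib.PSolvable.Core

/-!
# Extremely closed abelian p-subgroups: group theory

For an extremely closed abelian 2-subgroup `H` and any `g`, the group generated by `H` and its
conjugate by `g` has a normal p-complement `K` and contains a unique `k ∈ K` with `k⁻¹ g ∈ N(H)`.
-/

set_option autoImplicit false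
set_option maxHeartbeats 400000
set_option linter.style.haveILetI false

namespace Cfsg.Agent.Lib.ExtClosedP

open Cfsg
open Cfsg.Agent.Lib
open scoped Pointwise

universe u

variable {G : Type u} [Group G] {H : Subgroup G}

/-- The conjugate `g H g⁻¹`. -/
abbrev cnj (g : G) (H : Subgroup G) : Subgroup G := H.map (MulAut.conj g).toMonoidHom

theorem mem_cnj {g x : G} : x ∈ cnj g H ↔ g⁻¹ * x * g ∈ H := by
  rw [cnj, Subgroup.mem_map]
  constructor
  · rintro ⟨y, hy, rfl⟩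
    simpa [MulAut.conj_apply, mul_assoc] using hy
  · intro h
    exact ⟨_, h, by simp [MulAut.conj_apply, mul_assoc]⟩

theorem conj_mem_cnj (g : G) {h : G} (hh : h ∈ H) : g * h * g⁻¹ ∈ cnj g H := by
  rw [mem_cnj]; simpa [mul_assoc] using hh

theorem cnj_mul (a b : G) : cnj (a * b) H = cnj a (cnj b H) := by
  ext x
  simp only [mem_cnj]
  rw [show (a * b)⁻¹ * x * (a * b) = b⁻¹ * (a⁻¹ * x * a) * b by group]

theorem cnj_of_mem_normalizer {g : G} (hg : g ∈ Subgroup.normalizer (H : Set G)) : cnj g H = H := by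
  ext x
  rw [mem_cnj]
  have h := Subgroup.mem_normalizer_iff.1 hg (g⁻¹ * x * g)
  rw [show g * (g⁻¹ * x * g) * g⁻¹ = x by group] at h
  exact h

theorem mem_normalizer_of_cnj_eq {g : G} (h : cnj g H = H) :
    g ∈ Subgroup.normalizer (H : Set G) :=
  Subgroup.mem_normalizer_iff.2 fun x => by
    conv_rhs => rw [← h, mem_cnj]
    rw [show g⁻¹ * (g * x * g⁻¹) * g = x by group]

theorem cnj_le_of_mem {Y : Subgroup G} (hHY : H ≤ Y) {y : G} (hy : y ∈ Y) : cnj y H ≤ Y := by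
  rintro _ ⟨h, hh, rfl⟩
  exact Y.mul_mem (Y.mul_mem hy (hHY hh)) (Y.inv_mem hy)

theorem commute_of_mem (hab : IsMulCommutative H) {x y : G} (hx : x ∈ H) (hy : y ∈ H) :
    Commute x y :=
  congrArg Subtype.val (hab.is_comm.comm (⟨x, hx⟩ : H) ⟨y, hy⟩)

variable [Finite G] {p : ℕ} [hp : Fact p.Prime]

theorem exists_orderOf_pow (hH2 : IsPGroup p H) {x : G} (hx : x ∈ H) :
    ∃ k : ℕ, orderOf x = p ^ k := by
  obtain ⟨k, hk⟩ := IsPGroup.iff_orderOf.1 hH2 ⟨x, hx⟩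
  exact ⟨k, by rw [← hk, ← Subgroup.orderOf_coe]⟩

theorem eq_one_of_pow_of_preg {x : G} (h2 : ∃ k : ℕ, orderOf x = p ^ k)
    (ho : ¬ p ∣ orderOf x) : x = 1 := by
  obtain ⟨k, hk⟩ := h2
  rcases k with - | k
  · exact orderOf_eq_one_iff.1 (by simpa using hk)
  · rw [hk] at ho
    exact absurd (dvd_pow_self p k.succ_ne_zero) ho

theorem eq_one_of_preg_mem (hH2 : IsPGroup p H) {x : G} (hx : x ∈ H) (ho : ¬ p ∣ orderOf x) :
    x = 1 :=
  eq_one_of_pow_of_preg (exists_orderOf_pow hH2 hx) ho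

theorem preg_orderOf_of_mem {K : Subgroup G} (hK : ¬ p ∣ Nat.card K) {x : G} (hx : x ∈ K) :
    ¬ p ∣ orderOf x :=
  fun h => hK (h.trans (Subgroup.orderOf_dvd_natCard K hx))

/-- An element of odd order in `H K` lies in `K`. -/
theorem preg_mem_of_mem_sup (hH2 : IsPGroup p H) {K : Subgroup G}
    (hHK : H ≤ Subgroup.normalizer (K : Set G)) {u : G} (hu : u ∈ H ⊔ K) (ho : ¬ p ∣ orderOf u) :
    u ∈ K := by
  have hu' : u ∈ ((H ⊔ K : Subgroup G) : Set G) := hu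
  rw [Subgroup.coe_mul_of_left_le_normalizer_right H K hHK] at hu'
  obtain ⟨h, hh, k, hk, rfl⟩ := hu'
  have hpow : ∀ n : ℕ, (h ^ n)⁻¹ * (h * k) ^ n ∈ K := by
    intro n
    induction n with
    | zero => simp
    | succ n ih =>
      have h1 := (Subgroup.mem_normalizer_iff.1 (inv_mem (hHK hh)) _).1 ih
      rw [pow_succ, pow_succ]
      have : (h ^ n * h)⁻¹ * ((h * k) ^ n * (h * k)) =
          h⁻¹ * ((h ^ n)⁻¹ * (h * k) ^ n) * h⁻¹⁻¹ * k := by group
      rw [this]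
      exact K.mul_mem h1 hk
  have hm := hpow (orderOf (h * k))
  rw [pow_orderOf_eq_one, mul_one, inv_mem_iff] at hm
  obtain ⟨e, he⟩ := exists_orderOf_pow hH2 hh
  refine K.mul_mem ?_ hk
  have hc : Nat.Coprime (orderOf h) (orderOf (h * k)) := by
    rw [he]
    exact (Nat.Coprime.pow_left _ (hp.out.coprime_iff_not_dvd.2 ho))
  have : h ^ Nat.gcd (orderOf h) (orderOf (h * k)) ∈ K := by
    rw [← zpow_natCast, Nat.gcd_eq_gcd_ab, zpow_add, zpow_mul, zpow_mul]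
    refine K.mul_mem ?_ (K.zpow_mem ?_ _)
    · rw [zpow_natCast, pow_orderOf_eq_one, one_zpow]; exact K.one_mem
    · rw [zpow_natCast]; exact hm
  rwa [hc.gcd_eq_one, pow_one] at this

theorem exists_sylow_eq_of_normalizer_le {X : Type u} [Group X] [Finite X] (Q : Subgroup X)
    (hQ : IsPGroup p Q) (hn : Subgroup.normalizer (Q : Set X) ≤ Q) :
    ∃ P : Sylow p X, (P : Subgroup X) = Q := by
  obtain ⟨P, hP⟩ := hQ.exists_le_sylow
  refine ⟨P, le_antisymm ?_ hP⟩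
  have := P.isPGroup'.isNilpotent
  have hnc := Group.normalizerCondition_of_isNilpotent (G := (P : Subgroup X))
  by_contra hle
  have hlt : Q.subgroupOf P < ⊤ := lt_top_iff_ne_top.2 fun h => hle (Subgroup.subgroupOf_eq_top.1 h)
  obtain ⟨x, hx, hxn⟩ := SetLike.exists_of_lt (hnc _ hlt)
  refine hxn (Subgroup.mem_subgroupOf.2 (hn (Subgroup.mem_normalizer_iff.2 fun y => ?_)))
  constructor
  · intro hy
    exact Subgroup.mem_subgroupOf.1
      ((Subgroup.mem_normalizer_iff.1 hx ⟨y, hP hy⟩).1 (Subgroup.mem_subgroupOf.2 hy))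
  · intro hy
    have hyP : y ∈ (P : Subgroup X) := by
      have : ((x⁻¹ : (P : Subgroup X)) : X) * ((x : X) * y * (x : X)⁻¹) * (x : X) ∈
          (P : Subgroup X) := (P : Subgroup X).mul_mem ((P : Subgroup X).mul_mem (x⁻¹).2 (hP hy)) x.2
      simpa [mul_assoc] using this
    exact Subgroup.mem_subgroupOf.1
      ((Subgroup.mem_normalizer_iff.1 hx ⟨y, hyP⟩).2 (Subgroup.mem_subgroupOf.2 hy))

theorem mem_of_mem_sup_cnj (hcl : IsExtremelyClosed H) {g x : G} (hx : x ∈ H ⊔ cnj g H)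
    (hn : x ∈ Subgroup.normalizer (H : Set G)) : x ∈ H := by
  have h : x ∈ (H ⊔ cnj g H) ⊓ Subgroup.normalizer (H : Set G) := ⟨hx, hn⟩
  rwa [hcl g] at h

variable (hH2 : IsPGroup p H) (hab : IsMulCommutative H) (hcl : IsExtremelyClosed H)
include hH2 hab hcl

/-- The group generated by `H` and a conjugate has a normal p-complement. -/
theorem exists_complement (g : G) : ∃ K : Subgroup G, K ≤ H ⊔ cnj g H ∧ ¬ p ∣ Nat.card K ∧
    (∀ x ∈ H ⊔ cnj g H, ∀ y ∈ K, x * y * x⁻¹ ∈ K) ∧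
    (∀ x ∈ H ⊔ cnj g H, ¬ p ∣ orderOf x → x ∈ K) ∧
    (∀ x ∈ H ⊔ cnj g H, (∃ e : ℕ, orderOf x = p ^ e) → ∃ k ∈ K, ∃ h ∈ H, x = k * h * k⁻¹) ∧
    ∃ k ∈ K, k⁻¹ * g ∈ Subgroup.normalizer (H : Set G) := by
  set X := H ⊔ cnj g H with hX
  have hHX : H ≤ X := le_sup_left
  let Q : Subgroup X := H.subgroupOf X
  have hQ2 : IsPGroup p Q := hH2.of_equiv (Subgroup.subgroupOfEquivOfLe hHX).symm
  have hQn : Subgroup.normalizer (Q : Set X) ≤ Q := by
    intro x hx
    refine Subgroup.mem_subgroupOf.2 (mem_of_mem_sup_cnj hcl x.2 ?_)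
    refine Subgroup.mem_normalizer_iff.2 fun y => ?_
    constructor
    · intro hy
      exact Subgroup.mem_subgroupOf.1
        ((Subgroup.mem_normalizer_iff.1 hx ⟨y, hHX hy⟩).1 (Subgroup.mem_subgroupOf.2 hy))
    · intro hy
      have hyX : y ∈ X := by
        have : (x : G)⁻¹ * ((x : G) * y * (x : G)⁻¹) * (x : G) ∈ X :=
          X.mul_mem (X.mul_mem (X.inv_mem x.2) (hHX hy)) x.2
        simpa [mul_assoc] using this
      exact Subgroup.mem_subgroupOf.1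
        ((Subgroup.mem_normalizer_iff.1 hx ⟨y, hyX⟩).2 (Subgroup.mem_subgroupOf.2 hy))
  obtain ⟨P, hP⟩ := exists_sylow_eq_of_normalizer_le Q hQ2 hQn
  have hNC : Subgroup.normalizer ((P : Subgroup X) : Set X) ≤
      Subgroup.centralizer ((P : Subgroup X) : Set X) := by
    rw [hP]
    intro x hx
    rw [Subgroup.mem_centralizer_iff]
    intro y hy
    exact Subtype.ext (commute_of_mem hab (Subgroup.mem_subgroupOf.1 hy)
      (Subgroup.mem_subgroupOf.1 (hQn hx))).eq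
  obtain ⟨K₀, hK₀, hK₀n, hK₀x⟩ : ∃ K₀ : Subgroup X, K₀ = (MonoidHom.transferSylow P hNC).ker ∧
      K₀.Normal ∧ ∀ x : X, ¬ p ∣ orderOf x → x ∈ K₀ := by
    refine ⟨_, rfl, MonoidHom.normal_ker _, fun x ho => MonoidHom.mem_ker.2 ?_⟩
    obtain ⟨e, he⟩ := IsPGroup.iff_orderOf.1 P.isPGroup' (MonoidHom.transferSylow P hNC x)
    exact eq_one_of_pow_of_preg ⟨e, he⟩ (fun h => ho (h.trans (orderOf_map_dvd _ _)))
  have hK₀odd : ¬ p ∣ Nat.card K₀ := fun h =>
      MonoidHom.not_dvd_card_ker_transferSylow P hNC (hK₀ ▸ h)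
  have hcomp : Subgroup.IsComplement' K₀ (P : Subgroup X) :=
    hK₀ ▸ MonoidHom.ker_transferSylow_isComplement' P hNC
  clear hK₀
  set K := K₀.map X.subtype with hK
  have hKmem : ∀ x : X, (x : G) ∈ K ↔ x ∈ K₀ := fun x =>
    Subgroup.mem_map_iff_mem Subtype.val_injective
  have hKodd : ¬ p ∣ Nat.card K := by
    rwa [hK, Subgroup.card_map_of_injective Subtype.val_injective]
  have hfactor : ∀ x : X, ∃ k ∈ K₀, ∃ h ∈ Q, x = k * h := by
    intro x
    obtain ⟨⟨k, h⟩, hkh⟩ := hcomp.2 x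
    exact ⟨k, k.2, h, hP ▸ h.2, hkh.symm⟩
  have hconj : ∀ S : Subgroup X, IsPGroup p S → ∃ k ∈ K₀, ∀ s ∈ S, k⁻¹ * s * k ∈ Q := by
    intro S hS
    obtain ⟨P', hP'⟩ := hS.exists_le_sylow
    obtain ⟨c, hc⟩ := MulAction.exists_smul_eq X P P'
    obtain ⟨k, hk, h, hh, rfl⟩ := hfactor c
    refine ⟨k, hk, fun s hs => ?_⟩
    have hs' : s ∈ ((k * h) • P : Sylow p X) := hc ▸ hP' hs
    have hs'' : s ∈ MulAut.conj (k * h) • (Q : Subgroup X) := by
      rw [← hP]; exact hs'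
    rw [Subgroup.mem_pointwise_smul_iff_inv_smul_mem, ← map_inv, MulAut.smul_def,
      MulAut.conj_apply] at hs''
    have := Q.mul_mem (Q.mul_mem hh hs'') (Q.inv_mem hh)
    simpa [mul_assoc] using this
  refine ⟨K, Subgroup.map_subtype_le _, hKodd, ?_, ?_, ?_, ?_⟩
  · intro x hx y hy
    obtain ⟨y, hy0, rfl⟩ := hy
    have h := (hKmem _).2 (hK₀n.conj_mem y hy0 ⟨x, hx⟩)
    simpa only [Subgroup.coe_mul, Subgroup.coe_inv, Subgroup.coe_subtype] using h
  · intro x hx ho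
    exact (hKmem ⟨x, hx⟩).2 (hK₀x _ (by rwa [Subgroup.orderOf_mk]))
  · rintro x hx ⟨e, he⟩
    obtain ⟨k, hk, hk'⟩ := hconj (Subgroup.zpowers ⟨x, hx⟩)
      (IsPGroup.of_card (n := e) (by rw [Nat.card_zpowers, Subgroup.orderOf_mk, he]))
    refine ⟨k, (hKmem k).2 hk, _, Subgroup.mem_subgroupOf.1 (hk' _ (Subgroup.mem_zpowers _)), ?_⟩
    push_cast
    group
  · have hgX : cnj g H ≤ X := le_sup_right
    have hS : IsPGroup p ((cnj g H).subgroupOf X) :=
      ((hH2.map _).of_equiv (Subgroup.subgroupOfEquivOfLe hgX).symm)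
    obtain ⟨k, hk, hk'⟩ := hconj _ hS
    refine ⟨k, (hKmem k).2 hk, mem_normalizer_of_cnj_eq ?_⟩
    have hle : cnj ((k : G)⁻¹ * g) H ≤ H := by
      rintro _ ⟨h, hh, rfl⟩
      have hmem : g * h * g⁻¹ ∈ X := hgX (conj_mem_cnj g hh)
      have := Subgroup.mem_subgroupOf.1 (hk' ⟨_, hmem⟩ (Subgroup.mem_subgroupOf.2 (conj_mem_cnj g hh)))
      push_cast at this
      simpa [MulAut.conj_apply, mul_assoc] using this
    refine Subgroup.eq_of_le_of_card_ge hle (le_of_eq ?_)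
    exact (Subgroup.card_map_of_injective (MulAut.conj _).injective).symm

/-- The defining property of the transporting element. -/
def IsTransport (p : ℕ) (H : Subgroup G) (g k : G) : Prop :=
  k ∈ H ⊔ cnj g H ∧ ¬ p ∣ orderOf k ∧ k⁻¹ * g ∈ Subgroup.normalizer (H : Set G)

theorem exists_isTransport (g : G) : ∃ k, IsTransport p H g k := by
  obtain ⟨K, hKX, hKo, -, -, -, k, hk, hkn⟩ := exists_complement hH2 hab hcl g
  exact ⟨k, hKX hk, preg_orderOf_of_mem hKo hk, hkn⟩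

theorem isTransport_unique {g k k' : G} (h : IsTransport p H g k) (h' : IsTransport p H g k') :
    k = k' := by
  obtain ⟨K, hKX, hKo, -, hodd, -, -⟩ := exists_complement hH2 hab hcl g
  have hmem : k⁻¹ * k' ∈ K := K.mul_mem (K.inv_mem (hodd _ h.1 h.2.1)) (hodd _ h'.1 h'.2.1)
  have hN : k⁻¹ * k' ∈ Subgroup.normalizer (H : Set G) := by
    have := mul_mem h.2.2 (inv_mem h'.2.2)
    simpa [mul_assoc] using this
  exact inv_mul_eq_one.1 (eq_one_of_preg_mem hH2 (mem_of_mem_sup_cnj hcl (hKX hmem) hN)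
    (preg_orderOf_of_mem hKo hmem))

/-- The transporting element. -/
noncomputable def kOf (g : G) : G := (exists_isTransport hH2 hab hcl g).choose

/-- The normalizing part of `g`. -/
noncomputable def nOf (g : G) : G := (kOf hH2 hab hcl g)⁻¹ * g

theorem kOf_spec (g : G) : IsTransport p H g (kOf hH2 hab hcl g) :=
  (exists_isTransport hH2 hab hcl g).choose_spec

theorem nOf_mem (g : G) : nOf hH2 hab hcl g ∈ Subgroup.normalizer (H : Set G) :=
  (kOf_spec hH2 hab hcl g).2.2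

theorem kOf_mul_nOf (g : G) : kOf hH2 hab hcl g * nOf hH2 hab hcl g = g := by
  rw [nOf, mul_inv_cancel_left]

theorem cnj_kOf (g : G) : cnj (kOf hH2 hab hcl g) H = cnj g H := by
  conv_rhs => rw [← kOf_mul_nOf hH2 hab hcl g, cnj_mul, cnj_of_mem_normalizer (nOf_mem hH2 hab hcl g)]

theorem nOf_of_mem {n : G} (hn : n ∈ Subgroup.normalizer (H : Set G)) :
    nOf hH2 hab hcl n = n := by
  have : kOf hH2 hab hcl n = 1 := isTransport_unique hH2 hab hcl (kOf_spec hH2 hab hcl n)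
    ⟨one_mem _, by simp [hp.out.ne_one], by simpa using hn⟩
  rw [nOf, this, inv_one, one_mul]

/-- `exists_isConj_mul` with a conjugating p'-element inside the two-conjugate subgroup. -/
theorem exists_conj_mul {a b : G} (ha : a ∈ H) (hb : b ∈ H) (g : G) :
    ∃ v ∈ H ⊔ cnj g H, ¬ p ∣ orderOf v ∧
      Commute (a * (nOf hH2 hab hcl g * b * (nOf hH2 hab hcl g)⁻¹)) v ∧
      ∃ w ∈ H ⊔ cnj g H, ¬ p ∣ orderOf w ∧ w * (a * (g * b * g⁻¹)) * w⁻¹ =
        a * (nOf hH2 hab hcl g * b * (nOf hH2 hab hcl g)⁻¹) * v := by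
  obtain ⟨K, hKX, hKo, hKn, hodd, h2el, -⟩ := exists_complement hH2 hab hcl g
  set n := nOf hH2 hab hcl g
  set k := kOf hH2 hab hcl g
  set b' := n * b * n⁻¹ with hb'
  have hb'H : b' ∈ H := (Subgroup.mem_normalizer_iff.1 (nOf_mem hH2 hab hcl g) b).1 hb
  have hkK : k ∈ K := hodd _ (kOf_spec hH2 hab hcl g).1 (kOf_spec hH2 hab hcl g).2.1
  set c := a * b' with hc
  have hcH : c ∈ H := H.mul_mem ha hb'H
  set u := b'⁻¹ * k * b' * k⁻¹ with hu
  have huK : u ∈ K := by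
    have := hKn b'⁻¹ (Subgroup.mem_sup_left (H.inv_mem hb'H)) k hkK
    rw [inv_inv] at this
    exact K.mul_mem this (K.inv_mem hkK)
  have hx : a * (g * b * g⁻¹) = c * u := by
    rw [← kOf_mul_nOf hH2 hab hcl g]
    simp only [hc, hu, hb', k, n]
    group
  obtain ⟨s, l, hl1, hl2, hse, hlo⟩ := Blocks.exists_isPPart (p := p) (c * u)
  have hsX : s ∈ H ⊔ cnj g H := by
    rw [Blocks.isPPart_iff.1 ⟨l, hl1, hl2, hse, hlo⟩]
    exact pow_mem ((H ⊔ cnj g H).mul_mem (Subgroup.mem_sup_left hcH) (hKX huK)) _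
  have hlX : l ∈ H ⊔ cnj g H := by
    have : l = s⁻¹ * (c * u) := by rw [← hl1, inv_mul_cancel_left]
    rw [this]
    exact mul_mem (inv_mem hsX) ((H ⊔ cnj g H).mul_mem (Subgroup.mem_sup_left hcH) (hKX huK))
  have hlodd := hlo
  have hlK : l ∈ K := hodd _ hlX hlodd
  obtain ⟨k₁, hk₁, h, hh, hs⟩ := h2el s hsX hse
  have hhc : h = c := by
    refine (inv_mul_eq_one.1 (eq_one_of_preg_mem hH2 (H.mul_mem (H.inv_mem hcH) hh) ?_)).symm
    have h1 : c⁻¹ * h = (c⁻¹ * k₁⁻¹ * c) * (u * l⁻¹ * k₁) := by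
      have : s = c * u * l⁻¹ := by rw [← hl1, mul_inv_cancel_right]
      rw [show h = k₁⁻¹ * s * k₁ by rw [hs]; group, this]
      group
    rw [h1]
    refine preg_orderOf_of_mem hKo (K.mul_mem ?_ (K.mul_mem (K.mul_mem huK (K.inv_mem hlK)) hk₁))
    have := hKn c⁻¹ (Subgroup.mem_sup_left (H.inv_mem hcH)) k₁⁻¹ (K.inv_mem hk₁)
    rwa [inv_inv] at this
  subst hhc
  refine ⟨k₁⁻¹ * l * k₁, mul_mem (mul_mem (inv_mem (hKX hk₁)) hlX) (hKX hk₁), ?_, ?_, ?_⟩
  · exact preg_orderOf_of_mem hKo (K.mul_mem (K.mul_mem (K.inv_mem hk₁) hlK) hk₁)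
  · rw [hs] at hl2
    show c * _ = _ * c
    have := hl2.eq
    calc c * (k₁⁻¹ * l * k₁) = k₁⁻¹ * ((k₁ * c * k₁⁻¹) * l) * k₁ := by group
      _ = k₁⁻¹ * (l * (k₁ * c * k₁⁻¹)) * k₁ := by rw [this]
      _ = k₁⁻¹ * l * k₁ * c := by group
  · refine ⟨k₁⁻¹, inv_mem (hKX hk₁), preg_orderOf_of_mem hKo (K.inv_mem hk₁), ?_⟩
    rw [hx, ← hl1, hs]
    group

/-- A product of an element of `H` and a conjugate of one is conjugate to an element `c v` with
`c ∈ H` and `v` of odd order commuting with `c`. -/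
theorem exists_isConj_mul {a b : G} (ha : a ∈ H) (hb : b ∈ H) (g : G) :
    ∃ v ∈ H ⊔ cnj g H, ¬ p ∣ orderOf v ∧
      Commute (a * (nOf hH2 hab hcl g * b * (nOf hH2 hab hcl g)⁻¹)) v ∧
      IsConj (a * (g * b * g⁻¹))
        (a * (nOf hH2 hab hcl g * b * (nOf hH2 hab hcl g)⁻¹) * v) := by
  obtain ⟨v, hv, hv1, hv2, w, -, -, hw⟩ := exists_conj_mul hH2 hab hcl ha hb g
  exact ⟨v, hv, hv1, hv2, isConj_iff.2 ⟨w, hw⟩⟩

end Cfsg.Agent.Lib.ExtClosedP
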