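import Mathlib
import Cfsg.Agent.Lib.ExtremelyClosedP.Basic
import Cfsg.Agent.Lib.CharsElem
import Cfsg.Agent.Lib.Chars.Ops
import Cfsg.Agent.Lib.Glauberman.Solvable
import Cfsg.Agent.Lib.Glauberman.CyclicCorr


/-!
# The fixed space of an extremely closed abelian p-subgroup in an irreducible module

If `H` is an extremely closed abelian `p`-subgroup, every irreducible character of degree `d` with
`w` the dimension of the fixed space of `H` satisfies `(p - 1) w ≤ d` or `d ≤ w`.
-/

set_option autoImplicit false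
set_option maxHeartbeats 400000
set_option linter.style.haveILetI false
set_option linter.unusedSectionVars false

namespace Cfsg.Agent.Lib.ExtClosedP

open Cfsg
open Cfsg.Agent.Lib
open scoped ComplexConjugate

universe u

variable {G : Type u} [Group G] [Finite G]

/-- A character is a positive definite function. -/
theorem exists_nonneg_sum {ι : Type*} [Fintype ι] (χ : IrrCharacter G) (x : ι → G) :
    ∃ r : ℝ, 0 ≤ r ∧ ∑ i, ∑ j, (χ : G → ℂ) (x i * (x j)⁻¹) = (r : ℂ) := by
  classical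
  cases nonempty_fintype G
  obtain ⟨d, hd0, hd⟩ := Chars.isIrrCharacter_exists_degree_pos χ.2
  have hG : (Nat.card G : ℂ) ≠ 0 := Chars.natCard_ne_zero
  have hdc : (χ : G → ℂ) 1 ≠ 0 := Chars.irr_apply_one_ne_zero χ
  have horth : ∀ a : G, ∑ b : G, (χ : G → ℂ) (a * b) * (χ : G → ℂ) b⁻¹ =
      (Nat.card G : ℂ) * (χ : G → ℂ) a / (χ : G → ℂ) 1 := by
    intro a
    have h1 : ∑ b : G, (χ : G → ℂ) b * (χ : G → ℂ) b⁻¹ = (Nat.card G : ℂ) := by
      have h := Chars.classInner_irr_self χ
      simp only [classInner, finsum_eq_sum_of_fintype] at h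
      simp only [Chars.irr_inv]
      exact (inv_mul_eq_one₀ hG).1 h |>.symm
    have h2 : ∑ b : G, (∑ v : G, (χ : G → ℂ) (a * (v * b * v⁻¹))) * (χ : G → ℂ) b⁻¹ =
        (Nat.card G : ℂ) * ∑ b : G, (χ : G → ℂ) (a * b) * (χ : G → ℂ) b⁻¹ := by
      simp only [Finset.sum_mul]
      rw [Finset.sum_comm]
      have : ∀ v : G, ∑ b : G, (χ : G → ℂ) (a * (v * b * v⁻¹)) * (χ : G → ℂ) b⁻¹ =
          ∑ b : G, (χ : G → ℂ) (a * b) * (χ : G → ℂ) b⁻¹ := fun v =>
        Fintype.sum_equiv (MulAut.conj v).toEquiv _ _ fun b => by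
          show _ = (χ : G → ℂ) (a * (v * b * v⁻¹)) * (χ : G → ℂ) (v * b * v⁻¹)⁻¹
          rw [show (v * b * v⁻¹)⁻¹ = v * b⁻¹ * v⁻¹ by group, Chars.irr_isClassFunction χ b⁻¹ v]
      simp only [this, Finset.sum_const, Finset.card_univ, nsmul_eq_mul, Nat.card_eq_fintype_card]
    rw [Finset.sum_congr rfl fun b _ => by rw [CharsElem.sum_irr_mul_conj]] at h2
    simp only [div_mul_eq_mul_div, ← Finset.sum_div, mul_assoc,
      ← Finset.mul_sum, h1] at h2
    apply mul_left_cancel₀ hG
    rw [← h2]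
    ring
  refine ⟨(d : ℝ) / (Nat.card G : ℝ) * ∑ z : G, Complex.normSq (∑ i, (χ : G → ℂ) ((x i)⁻¹ * z)),
    mul_nonneg (by positivity) (Finset.sum_nonneg fun z _ => Complex.normSq_nonneg _), ?_⟩
  have h3 : ∀ i j, (χ : G → ℂ) (x i * (x j)⁻¹) = (χ : G → ℂ) 1 / (Nat.card G : ℂ) *
      ∑ z : G, (χ : G → ℂ) ((x j)⁻¹ * z) * conj ((χ : G → ℂ) ((x i)⁻¹ * z)) := by
    intro i j
    have e : ∑ z : G, (χ : G → ℂ) ((x j)⁻¹ * z) * conj ((χ : G → ℂ) ((x i)⁻¹ * z)) =
        ∑ b : G, (χ : G → ℂ) ((x j)⁻¹ * x i * b) * (χ : G → ℂ) b⁻¹ :=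
      Fintype.sum_equiv (Equiv.mulLeft (x i)⁻¹) _ _ fun z => by
        simp only [Equiv.coe_mulLeft, Chars.irr_inv, mul_assoc, mul_inv_cancel_left]
    rw [e, horth, show x i * (x j)⁻¹ = x i * ((x j)⁻¹ * x i) * (x i)⁻¹ by group,
      Chars.irr_isClassFunction χ _ (x i)]
    field_simp
  simp only [h3, ← Finset.mul_sum]
  rw [hd]
  push_cast
  congr 1
  rw [Finset.sum_congr rfl fun i _ => Finset.sum_comm, Finset.sum_comm]
  refine Finset.sum_congr rfl fun z _ => ?_
  simp only [← Finset.sum_mul]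
  rw [← Finset.mul_sum, ← map_sum, Complex.mul_conj]

theorem exists_mult (A : Subgroup G) [Fintype A] (χ : IrrCharacter G) :
    ∃ m : ℕ, ∑ a : A, (χ : G → ℂ) a = (Nat.card A : ℂ) * m := by
  obtain ⟨n, ρ, hirr, hχ⟩ := χ.2
  let : Invertible (Nat.card A : ℂ) := invertibleOfNonzero (Nat.cast_ne_zero.2 Nat.card_pos.ne')
  refine ⟨Module.finrank ℂ (Representation.invariants (ρ.comp A.subtype)), ?_⟩
  rw [← Representation.card_inv_mul_sum_char_eq_finrank, ← mul_assoc,
    mul_inv_cancel₀ (Nat.cast_ne_zero.2 Nat.card_pos.ne'), one_mul, ← hχ]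
  rfl

theorem irr_eq_trivial_of_subsingleton {B : Subgroup G} (hB : B = ⊥) (β : IrrCharacter B) :
    β = Chars.trivialIrr B := by
  classical
  subst hB
  by_contra hne
  have h := Chars.classInner_irr_of_ne hne
  have hsum : ∀ f : (⊥ : Subgroup G) → ℂ, ∑ a, f a = f 1 := fun f =>
    Fintype.sum_eq_single 1 fun a ha => absurd (Subsingleton.elim a 1) ha
  simp only [classInner, hsum, Subgroup.card_bot, Chars.trivialIrr_apply, Nat.cast_one, inv_one,
    one_mul, map_one, mul_one] at h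
  exact Chars.irr_apply_one_ne_zero β h

/-- For `X = K A`, `K` a normal p'-subgroup on which the abelian p-group `A` acts with trivial
centralizer, a nontrivial irreducible character contains the trivial character of `A` at most
`1/p` of its degree. -/
theorem mult_le_of_fpf {p : ℕ} [hp : Fact p.Prime] (K A : Subgroup G) [K.Normal] [Fintype A]
    (hK : ¬ p ∣ Nat.card K) (hA : IsPGroup p A) (hab : IsMulCommutative A) (htop : K ⊔ A = ⊤)
    (hfpf : K ⊓ Subgroup.centralizer (A : Set G) = ⊥) {ψ : IrrCharacter G}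
    (hψ : ψ ≠ Chars.trivialIrr G) {d m : ℕ} (hd : (ψ : G → ℂ) 1 = d)
    (hm : ∑ a : A, (ψ : G → ℂ) a = (Nat.card A : ℂ) * m) : p * m ≤ d := by
  classical
  cases nonempty_fintype G
  obtain ⟨e, he⟩ := hA.exists_card_eq
  have hcop : (Nat.card K).Coprime (Nat.card A) := by
    rw [he]
    exact Nat.Coprime.pow_right _ (hp.out.coprime_iff_not_dvd.2 hK).symm
  have hdisj : K ⊓ A = ⊥ := Subgroup.inf_eq_bot_of_coprime hcop
  have hmul : ∀ x : G, ∃ k ∈ K, ∃ a ∈ A, x = k * a := by
    intro x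
    obtain ⟨k, hk, a, ha, h⟩ := Subgroup.mem_sup_of_normal_left.1 (htop ▸ Subgroup.mem_top x)
    exact ⟨k, hk, a, ha, h.symm⟩
  let π : A →* G ⧸ K := (QuotientGroup.mk' K).comp A.subtype
  have hπ : Function.Bijective π := by
    constructor
    · rw [← MonoidHom.ker_eq_bot_iff, Subgroup.eq_bot_iff_forall]
      intro a ha
      have : (a : G) ∈ K ⊓ A := ⟨(QuotientGroup.eq_one_iff _).1 ha, a.2⟩
      rw [hdisj, Subgroup.mem_bot] at this
      exact Subtype.ext this
    · intro q
      obtain ⟨x, rfl⟩ := QuotientGroup.mk'_surjective K q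
      obtain ⟨k, hk, a, ha, rfl⟩ := hmul x
      exact ⟨⟨a, ha⟩, by simp [π, (QuotientGroup.eq_one_iff k).2 hk]⟩
  let eA : A ≃* G ⧸ K := MulEquiv.ofBijective π hπ
  let lift : (A →* ℂˣ) → (G →* ℂˣ) := fun l =>
    l.comp ((eA.symm.toMonoidHom).comp (QuotientGroup.mk' K))
  have hlA : ∀ (l : A →* ℂˣ) (a : A), lift l a = l a := fun l a => by
    show l (eA.symm (eA a)) = l a
    rw [MulEquiv.symm_apply_apply]
  have hlK : ∀ (l : A →* ℂˣ) (k : G), k ∈ K → lift l k = 1 := fun l k hk => by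
    show l (eA.symm (QuotientGroup.mk k)) = 1
    rw [(QuotientGroup.eq_one_iff k).2 hk, map_one, map_one]
  by_cases hfix : ∃ l : A →* ℂˣ, l ≠ 1 ∧
      ∀ x, (ψ : G → ℂ) x * (lift l x : ℂ) = (ψ : G → ℂ) x
  · obtain ⟨l, hl1, hl⟩ := hfix
    have hzero : ∀ a : A, l a ≠ 1 → (ψ : G → ℂ) a = 0 := by
      intro a ha
      have h := hl a
      rw [hlA] at h
      by_contra hne
      exact ha (Units.ext ((mul_eq_left₀ hne).1 h))
    have hker : p * (Finset.univ.filter fun a : A => l a = 1).card ≤ Nat.card A := by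
      have hc : (Finset.univ.filter fun a : A => l a = 1).card = Nat.card l.ker := by
        rw [Nat.card_eq_fintype_card, Fintype.card_subtype]
        exact congrArg Finset.card (Finset.filter_congr fun a _ => MonoidHom.mem_ker.symm)
      rw [hc, ← Subgroup.card_mul_index l.ker, mul_comm p]
      refine Nat.mul_le_mul_left _ ?_
      obtain ⟨j, hj⟩ := hA.index l.ker
      rcases j with - | j
      · exfalso
        rw [pow_zero, Subgroup.index_eq_one, MonoidHom.ker_eq_top_iff] at hj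
        exact hl1 hj
      · rw [hj, pow_succ']
        exact Nat.le_mul_of_pos_right _ (pow_pos hp.out.pos _)
    have hbound : (Nat.card A : ℝ) * m ≤
        ((Finset.univ.filter fun a : A => l a = 1).card : ℝ) * d := by
      obtain ⟨n, ρ, hirr, hχ⟩ := ψ.2
      have hn : (n : ℂ) = d := by
        rw [← hd, ← hχ, Representation.char_one, Module.finrank_fintype_fun_eq_card,
          Fintype.card_fin]
      have h : ‖∑ a : A, (ψ : G → ℂ) a‖ ≤
          ((Finset.univ.filter fun a : A => l a = 1).card : ℝ) * d := by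
        rw [← Finset.sum_filter_add_sum_filter_not Finset.univ (fun a : A => l a = 1),
          Finset.sum_eq_zero (s := Finset.univ.filter fun a : A => ¬ l a = 1)
            (fun a ha => hzero a (Finset.mem_filter.1 ha).2), add_zero]
        refine (norm_sum_le _ _).trans ((Finset.sum_le_card_nsmul _ _ (d : ℝ) fun a _ => ?_).trans
          (le_of_eq (nsmul_eq_mul _ _)))
        have := Chars.norm_char_le ρ (a : G)
        rw [hχ, Module.finrank_fintype_fun_eq_card, Fintype.card_fin] at this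
        rw [show d = n by exact_mod_cast hn.symm]
        exact this
      rw [hm, norm_mul, Complex.norm_natCast, Complex.norm_natCast] at h
      exact h
    have hnat : Nat.card A * m ≤ (Finset.univ.filter fun a : A => l a = 1).card * d := by
      exact_mod_cast hbound
    have : Nat.card A * (p * m) ≤ Nat.card A * d := by
      calc Nat.card A * (p * m) = p * (Nat.card A * m) := by ring
        _ ≤ p * ((Finset.univ.filter fun a : A => l a = 1).card * d) := Nat.mul_le_mul_left _ hnat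
        _ ≤ Nat.card A * d := by rw [← mul_assoc]; exact Nat.mul_le_mul_right _ hker
    exact Nat.le_of_mul_le_mul_left this Nat.card_pos
  · push Not at hfix
    haveI : Fintype K := Fintype.ofFinite _
    set θ : K → ℂ := fun k => (ψ : G → ℂ) k with hθ
    have hθc : IsCharacter K θ := by
      obtain ⟨n, ρ, hirr, hχ⟩ := ψ.2
      exact ⟨n, ρ.comp K.subtype, by rw [hθ, ← hχ]; rfl⟩
    haveI : Finite (A →* ℂˣ) := Finite.of_injective _ Chars.linIrr_injective
    haveI : Fintype (A →* ℂˣ) := Fintype.ofFinite _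
    have hsum1 : ∀ x : G, ∑ l : A →* ℂˣ, (lift l x : ℂ) =
        if x ∈ K then (Nat.card A : ℂ) else 0 := by
      intro x
      obtain ⟨k, hk, a, ha, rfl⟩ := hmul x
      have hiff : k * a ∈ K ↔ (⟨a, ha⟩ : A) = 1 := by
        rw [K.mul_mem_cancel_left hk]
        refine ⟨fun h => ?_, fun h => ?_⟩
        · have h' : a ∈ K ⊓ A := ⟨h, ha⟩
          rw [hdisj, Subgroup.mem_bot] at h'
          exact Subtype.ext h'
        · have : a = 1 := congrArg Subtype.val h
          rw [this]; exact K.one_mem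
      have hl : ∀ l : A →* ℂˣ, lift l (k * a) = l ⟨a, ha⟩ := fun l => by
        rw [map_mul, hlK l k hk, one_mul, ← hlA l ⟨a, ha⟩]
      rw [Finset.sum_congr rfl fun l _ => by rw [hl l], Glauberman.sum_hom_apply]
      exact if_congr hiff.symm rfl rfl
    have hnorm : classInner θ θ = 1 := by
      have h1 : ∀ l : A →* ℂˣ, (Nat.card G : ℂ)⁻¹ *
          ∑ x : G, (ψ : G → ℂ) x * (lift l x : ℂ) * conj ((ψ : G → ℂ) x) =
            if l = 1 then 1 else 0 := by
        intro l
        have h := Chars.classInner_irr ⟨fun x => (ψ : G → ℂ) x * (lift l x : ℂ), by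
          simpa only [mul_comm] using Chars.isIrrCharacter_hom_mul (lift l) ψ.2⟩ ψ
        simp only [classInner] at h
        rw [h]
        refine if_congr ⟨fun e => ?_, fun e => ?_⟩ rfl rfl
        · by_contra hne
          obtain ⟨x, hx⟩ := hfix l hne
          exact hx (congrFun (congrArg Subtype.val e) x)
        · subst e
          refine Subtype.ext (funext fun x => ?_)
          show (ψ : G → ℂ) x * ((lift 1 x : ℂˣ) : ℂ) = _
          rw [show lift 1 x = 1 from rfl, Units.val_one, mul_one]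
      have h2 := Finset.sum_congr rfl fun l (_ : l ∈ (Finset.univ : Finset (A →* ℂˣ))) => h1 l
      rw [Finset.sum_ite_eq' Finset.univ (1 : A →* ℂˣ) (fun _ => (1 : ℂ)),
        if_pos (Finset.mem_univ _), ← Finset.mul_sum, Finset.sum_comm] at h2
      have h3 : ∀ x : G, ∑ l : A →* ℂˣ, (ψ : G → ℂ) x * (lift l x : ℂ) * conj ((ψ : G → ℂ) x) =
          if x ∈ K then (Nat.card A : ℂ) * ((ψ : G → ℂ) x * conj ((ψ : G → ℂ) x)) else 0 := by
        intro x
        rw [← Finset.sum_mul, ← Finset.mul_sum, hsum1]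
        split_ifs <;> ring
      rw [Finset.sum_congr rfl fun x _ => h3 x, ← Finset.sum_filter,
        Finset.sum_subtype (p := fun x => x ∈ K) _ (by simp), ← Finset.mul_sum] at h2
      simp only [classInner, finsum_eq_sum_of_fintype, hθ]
      have hcard : Nat.card G = Nat.card K * Nat.card A := by
        rw [← Nat.card_congr eA.toEquiv.symm, mul_comm, ← K.card_eq_card_quotient_mul_card_subgroup]
      rw [hcard, Nat.cast_mul, mul_inv, mul_assoc, ← mul_assoc (Nat.card A : ℂ)⁻¹,
        inv_mul_cancel₀ (Nat.cast_ne_zero.2 Nat.card_pos.ne'), one_mul] at h2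
      exact h2
    have hθi := (Chars.isIrrCharacter_iff_classInner_eq_one hθc).2 hnorm
    have hsol : Group.IsSolvable A := by
      haveI := hA.isNilpotent
      infer_instance
    have hSG : ∀ s ∈ A, Glauberman.Normalises s K := fun s _ g =>
      ⟨fun hg => (inferInstance : K.Normal).conj_mem g hg s, fun hg => by
        have := (inferInstance : K.Normal).conj_mem _ hg s⁻¹
        rwa [show s⁻¹ * (s * g * s⁻¹) * s⁻¹⁻¹ = g by group] at this⟩
    have hone : Nat.card (IrrCharacter (⊥ : Subgroup G)) = 1 := Nat.card_eq_one_iff_unique.2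
      ⟨⟨fun a b => (irr_eq_trivial_of_subsingleton rfl a).trans
        (irr_eq_trivial_of_subsingleton rfl b).symm⟩, ⟨Chars.trivialIrr _⟩⟩
    have hcnt := Glauberman.card_invariant_eq (C := ⊥) hsol hSG hcop hfpf.symm
    rw [hone] at hcnt
    obtain ⟨hsub, -⟩ := Nat.card_eq_one_iff_unique.1 hcnt
    have hinv : Glauberman.IsInv A θ := fun s _ g g' hg => by
      show (ψ : G → ℂ) g' = (ψ : G → ℂ) g
      rw [hg, Chars.irr_isClassFunction ψ]
    have htriv := congrArg Subtype.val (congrArg Subtype.val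
      (hsub.elim ⟨⟨θ, hθi⟩, hinv⟩ ⟨Chars.trivialIrr K, fun _ _ _ _ _ => rfl⟩))
    have hK1 : ∀ k : K, (ψ : G → ℂ) k = 1 := fun k => congrFun htriv k
    have hd1 : d = 1 := by
      have := hK1 1
      rw [OneMemClass.coe_one, hd] at this
      exact_mod_cast this
    obtain ⟨φ, hφ⟩ := Chars.exists_hom_of_degree_one (Chars.irr_isCharacter ψ)
      (by rw [hd, hd1, Nat.cast_one])
    have hφA : φ.comp A.subtype ≠ 1 := by
      intro h
      refine hψ (Subtype.ext (funext fun x => ?_))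
      obtain ⟨k, hk, a, ha, rfl⟩ := hmul x
      rw [hφ, Chars.trivialIrr_apply]
      show ((φ (k * a) : ℂˣ) : ℂ) = 1
      have h1 : φ a = 1 := DFunLike.congr_fun h ⟨a, ha⟩
      have h2 := hK1 ⟨k, hk⟩
      rw [hφ] at h2
      rw [map_mul, h1, mul_one]
      exact h2
    obtain ⟨a₀, ha₀⟩ : ∃ a₀ : A, φ a₀ ≠ 1 := by
      by_contra h
      push Not at h
      exact hφA (MonoidHom.ext h)
    have hz : ∑ a : A, (ψ : G → ℂ) a = 0 := by
      have e := Fintype.sum_equiv (Equiv.mulLeft a₀) (fun a : A => (ψ : G → ℂ) ((a₀ * a : A) : G))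
        (fun a => (ψ : G → ℂ) a) fun a => rfl
      simp only [hφ, Subgroup.coe_mul, map_mul, Units.val_mul, ← Finset.mul_sum] at e
      rw [hφ]
      by_contra hne
      exact ha₀ (Units.ext ((mul_eq_right₀ hne).1 e))
    rw [hz] at hm
    have : m = 0 := by
      rcases mul_eq_zero.1 hm.symm with h | h
      · exact absurd h (Nat.cast_ne_zero.2 Nat.card_pos.ne')
      · exact_mod_cast h
    rw [this, mul_zero]
    exact Nat.zero_le _

variable {p : ℕ} [hp : Fact p.Prime] {H : Subgroup G}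

/-- The fixed space of `H` is small or everything. -/
theorem fixed_dim_bound (hH2 : IsPGroup p H) (hab : IsMulCommutative H)
    (hcl : IsExtremelyClosed H) [Fintype H] (χ : IrrCharacter G) {d w : ℕ}
    (hd : (χ : G → ℂ) 1 = d) (hw : ∑ h : H, (χ : G → ℂ) h = (Nat.card H : ℂ) * w) :
    (p - 1) * w ≤ d ∨ d ≤ w := by
  classical
  cases nonempty_fintype G
  set q := Nat.card H with hq
  have hpair : ∀ g : G, ∃ r : ℝ,
      ∑ a : H, ∑ b : H, (χ : G → ℂ) (a * (g * b * g⁻¹)) = (r : ℂ) ∧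
      (q : ℝ) ^ 2 * ((p : ℝ) * w - d) ≤ ((p : ℝ) - 1) * r := by
    intro g
    obtain ⟨K, hKX, hKo, hKn, hodd, -, -⟩ := exists_complement hH2 hab hcl g
    set X := H ⊔ cnj g H with hX
    have hHX : H ≤ X := le_sup_left
    set k := kOf hH2 hab hcl g
    set n := nOf hH2 hab hcl g
    have hkK : k ∈ K := hodd _ (kOf_spec hH2 hab hcl g).1 (kOf_spec hH2 hab hcl g).2.1
    have hn := nOf_mem hH2 hab hcl g
    let eH : H ≃ H :=
      { toFun := fun b => ⟨n * b * n⁻¹, (Subgroup.mem_normalizer_iff.1 hn b).1 b.2⟩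
        invFun := fun b => ⟨n⁻¹ * b * n, by
          have := (Subgroup.mem_normalizer_iff.1 (inv_mem hn) b).1 b.2
          simpa using this⟩
        left_inv := fun b => Subtype.ext (by simp only; group)
        right_inv := fun b => Subtype.ext (by simp only; group) }
    have hre : ∑ a : H, ∑ b : H, (χ : G → ℂ) (a * (g * b * g⁻¹)) =
        ∑ a : H, ∑ b : H, (χ : G → ℂ) (a * (k * b * k⁻¹)) := by
      refine Finset.sum_congr rfl fun a _ => Fintype.sum_equiv eH _ _ fun b => ?_
      show _ = (χ : G → ℂ) (a * (k * (n * b * n⁻¹) * k⁻¹))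
      rw [← kOf_mul_nOf hH2 hab hcl g]
      simp only [k, n]
      group
    -- the two-conjugate subgroup
    let KX : Subgroup X := K.subgroupOf X
    let A : Subgroup X := H.subgroupOf X
    haveI : Fintype X := Fintype.ofFinite _
    haveI : Fintype A := Fintype.ofFinite _
    haveI hKXn : KX.Normal := ⟨fun y hy x => hKn x x.2 y hy⟩
    have hKXo : ¬ p ∣ Nat.card KX := by
      rwa [Nat.card_congr (Subgroup.subgroupOfEquivOfLe hKX).toEquiv]
    have hA2 : IsPGroup p A := hH2.of_equiv (Subgroup.subgroupOfEquivOfLe hHX).symm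
    have hAab : IsMulCommutative A := ⟨⟨fun a b => Subtype.ext (Subtype.ext
      (commute_of_mem hab (Subgroup.mem_subgroupOf.1 a.2) (Subgroup.mem_subgroupOf.1 b.2)).eq)⟩⟩
    have htop : KX ⊔ A = ⊤ := by
      apply Subgroup.map_injective X.subtype_injective
      rw [Subgroup.map_sup, Subgroup.map_subgroupOf_eq_of_le hKX,
        Subgroup.map_subgroupOf_eq_of_le hHX, ← MonoidHom.range_eq_map, Subgroup.range_subtype]
      refine le_antisymm (sup_le hKX hHX) (sup_le le_sup_right ?_)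
      rw [← cnj_kOf hH2 hab hcl g]
      exact cnj_le_of_mem le_sup_right (Subgroup.mem_sup_left hkK)
    have hfpf : KX ⊓ Subgroup.centralizer (A : Set X) = ⊥ := by
      rw [Subgroup.eq_bot_iff_forall]
      rintro x ⟨hxK, hxC⟩
      have hxN : (x : G) ∈ Subgroup.normalizer (H : Set G) := by
        refine Subgroup.centralizer_le_normalizer _ ?_
        rw [Subgroup.mem_centralizer_iff]
        intro h hh
        exact congrArg Subtype.val
          (Subgroup.mem_centralizer_iff.1 hxC ⟨h, hHX hh⟩ (Subgroup.mem_subgroupOf.2 hh))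
      exact Subtype.ext (eq_one_of_preg_mem hH2 (mem_of_mem_sup_cnj hcl x.2 hxN)
        (preg_orderOf_of_mem hKo hxK))
    have hcq : Nat.card A = q := Nat.card_congr (Subgroup.subgroupOfEquivOfLe hHX).toEquiv
    have hresc : IsCharacter X (fun x : X => (χ : G → ℂ) x) := by
      obtain ⟨N, ρ, hirr, hχ⟩ := χ.2
      exact ⟨N, ρ.comp X.subtype, by rw [← hχ]; rfl⟩
    obtain ⟨c, hc⟩ := Chars.isCharacter_exists_nat_decomp hresc
    have hcval : ∀ x : X, (χ : G → ℂ) x = ∑ ψ : IrrCharacter X, (c ψ : ℂ) * (ψ : X → ℂ) x := by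
      intro x
      have := congrFun hc x
      simpa [Finset.sum_apply] using this
    choose mψ hmψ using fun ψ : IrrCharacter X => exists_mult A ψ
    choose dψ hdψ0 hdψ using fun ψ : IrrCharacter X => Chars.isIrrCharacter_exists_degree_pos ψ.2
    let kX : X := ⟨k, hKX hkK⟩
    choose rψ hrψ0 hrψ using fun ψ : IrrCharacter X =>
      exists_nonneg_sum ψ (fun i : A × A => (i.1 : X) * kX * (i.2 : X))
    let eA : A ≃ H := (Subgroup.subgroupOfEquivOfLe hHX).toEquiv
    have hwA : ∑ a : A, (χ : G → ℂ) ((a : X) : G) = (q : ℂ) * w := by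
      rw [← hw]
      exact Fintype.sum_equiv eA _ _ fun a => rfl
    -- evaluation of the pair sum
    have hexp : (q : ℂ) ^ 2 * ∑ a : H, ∑ b : H, (χ : G → ℂ) (a * (k * b * k⁻¹)) =
        ∑ ψ : IrrCharacter X, (c ψ : ℂ) * (rψ ψ : ℂ) := by
      have e0 : ∀ ψ : IrrCharacter X, ∑ i : A × A, ∑ j : A × A,
          (ψ : X → ℂ) ((i.1 : X) * kX * (i.2 : X) * ((j.1 : X) * kX * (j.2 : X))⁻¹) =
          (q : ℂ) ^ 2 * ∑ a : A, ∑ b : A, (ψ : X → ℂ) ((a : X) * (kX * (b : X) * kX⁻¹)) := by
        intro ψ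
        have e : ∀ i j : A × A,
            (ψ : X → ℂ) ((i.1 : X) * kX * (i.2 : X) * ((j.1 : X) * kX * (j.2 : X))⁻¹) =
            (ψ : X → ℂ) (((j.1⁻¹ * i.1 : A) : X) * (kX * ((i.2 * j.2⁻¹ : A) : X) * kX⁻¹)) := by
          intro i j
          rw [← Chars.irr_isClassFunction ψ
            ((i.1 : X) * kX * (i.2 : X) * ((j.1 : X) * kX * (j.2 : X))⁻¹) (j.1 : X)⁻¹]
          push_cast
          congr 1
          group
        simp only [e]
        rw [Finset.sum_comm]
        have e1 : ∀ j : A × A, ∑ i : A × A,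
            (ψ : X → ℂ) (((j.1⁻¹ * i.1 : A) : X) * (kX * ((i.2 * j.2⁻¹ : A) : X) * kX⁻¹)) =
            ∑ a : A, ∑ b : A, (ψ : X → ℂ) ((a : X) * (kX * (b : X) * kX⁻¹)) := by
          intro j
          rw [← Fintype.sum_prod_type']
          exact Fintype.sum_equiv ((Equiv.mulLeft j.1⁻¹).prodCongr (Equiv.mulRight j.2⁻¹))
            _ _ fun i => rfl
        simp only [e1, Finset.sum_const, Finset.card_univ, nsmul_eq_mul, ← Nat.card_eq_fintype_card, Nat.card_prod, hcq]
        push_cast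
        ring
      simp only [← hrψ, e0]
      have : ∀ a b : A, (χ : G → ℂ) ((((a : X) * (kX * (b : X) * kX⁻¹)) : X) : G) =
          (χ : G → ℂ) ((eA a : G) * (k * (eA b : G) * k⁻¹)) := fun a b => rfl
      rw [show ∑ a : H, ∑ b : H, (χ : G → ℂ) (a * (k * b * k⁻¹)) =
          ∑ a : A, ∑ b : A, (χ : G → ℂ) ((((a : X) * (kX * (b : X) * kX⁻¹)) : X) : G) from
        (Fintype.sum_equiv eA _ _ fun a => Fintype.sum_equiv eA _ _ fun b => this a b).symm]
      simp only [hcval, Finset.mul_sum]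
      rw [Finset.sum_congr rfl fun a _ => Finset.sum_comm, Finset.sum_comm]
      exact Finset.sum_congr rfl fun ψ _ =>
        Finset.sum_congr rfl fun a _ => Finset.sum_congr rfl fun b _ => by ring
    set t := Chars.trivialIrr X with ht
    have hrt : rψ t = (q : ℝ) ^ 4 := by
      have := hrψ t
      simp only [ht, Chars.trivialIrr_apply, Finset.sum_const, Finset.card_univ, nsmul_eq_mul,
        mul_one, ← Nat.card_eq_fintype_card, Nat.card_prod, hcq] at this
      have h4 : (rψ t : ℂ) = (((q : ℝ) ^ 4 : ℝ) : ℂ) := by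
        rw [ht, ← this]; push_cast; ring
      exact Complex.ofReal_injective h4
    refine ⟨(∑ ψ : IrrCharacter X, (c ψ : ℝ) * rψ ψ) / (q : ℝ) ^ 2, ?_, ?_⟩
    · rw [hre]
      push_cast
      rw [← hexp, mul_div_cancel_left₀]
      exact pow_ne_zero 2 (Nat.cast_ne_zero.2 Nat.card_pos.ne')
    · have hlow : (c t : ℝ) * (q : ℝ) ^ 2 ≤
          (∑ ψ : IrrCharacter X, (c ψ : ℝ) * rψ ψ) / (q : ℝ) ^ 2 := by
        rw [le_div_iff₀ (pow_pos (Nat.cast_pos.2 Nat.card_pos) 2)]
        calc (c t : ℝ) * (q : ℝ) ^ 2 * (q : ℝ) ^ 2 = (c t : ℝ) * rψ t := by rw [hrt]; ring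
          _ ≤ _ := Finset.single_le_sum (f := fun ψ => (c ψ : ℝ) * rψ ψ)
              (fun ψ _ => mul_nonneg (Nat.cast_nonneg _) (hrψ0 ψ)) (Finset.mem_univ t)
      have hdec1 : d = ∑ ψ : IrrCharacter X, c ψ * dψ ψ := by
        have h := hcval 1
        simp only [OneMemClass.coe_one, hdψ, hd] at h
        exact_mod_cast h
      have hdecw : w = ∑ ψ : IrrCharacter X, c ψ * mψ ψ := by
        have h := hwA
        simp only [hcval] at h
        rw [Finset.sum_comm] at h
        simp only [← Finset.mul_sum, hmψ, hcq] at h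
        have h2 : (q : ℂ) * ((∑ ψ : IrrCharacter X, c ψ * mψ ψ : ℕ) : ℂ) = (q : ℂ) * w := by
          rw [← h]
          push_cast
          rw [Finset.mul_sum]
          exact Finset.sum_congr rfl fun ψ _ => by ring
        exact_mod_cast (mul_left_cancel₀ (Nat.cast_ne_zero.2 Nat.card_pos.ne') h2).symm
      have ht1 : dψ t = 1 ∧ mψ t = 1 := by
        have h1 := hdψ t
        have h2 := hmψ t
        simp only [ht, Chars.trivialIrr_apply, Finset.sum_const, Finset.card_univ, nsmul_eq_mul,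
          mul_one, ← Nat.card_eq_fintype_card] at h1 h2
        refine ⟨by exact_mod_cast h1.symm, ?_⟩
        exact_mod_cast (mul_eq_left₀ (Nat.cast_ne_zero.2 Nat.card_pos.ne')).1 h2.symm
      have hkey : p * w + c t ≤ d + p * c t := by
        rw [hdecw, hdec1, Finset.mul_sum,
          ← Finset.add_sum_erase _ _ (Finset.mem_univ t),
          ← Finset.add_sum_erase _ _ (Finset.mem_univ t), ht1.1, ht1.2, mul_one]
        have : ∑ ψ ∈ Finset.univ.erase t, p * (c ψ * mψ ψ) ≤
            ∑ ψ ∈ Finset.univ.erase t, c ψ * dψ ψ := by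
          refine Finset.sum_le_sum fun ψ hψ => ?_
          rw [mul_left_comm]
          exact Nat.mul_le_mul_left _
            (mult_le_of_fpf KX A hKXo hA2 hAab htop hfpf (Finset.ne_of_mem_erase hψ) (hdψ ψ)
              (hmψ ψ))
        omega
      have hkey' : (p : ℝ) * w - d ≤ ((p : ℝ) - 1) * c t := by
        have : ((p * w + c t : ℕ) : ℝ) ≤ ((d + p * c t : ℕ) : ℝ) := by exact_mod_cast hkey
        push_cast at this
        linarith
      have hp1 : (0 : ℝ) ≤ (p : ℝ) - 1 := by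
        have : (1 : ℝ) ≤ p := by exact_mod_cast hp.out.one_le
        linarith
      calc (q : ℝ) ^ 2 * ((p : ℝ) * w - d) ≤ (q : ℝ) ^ 2 * (((p : ℝ) - 1) * c t) :=
            mul_le_mul_of_nonneg_left hkey' (by positivity)
        _ = ((p : ℝ) - 1) * ((c t : ℝ) * (q : ℝ) ^ 2) := by ring
        _ ≤ _ := mul_le_mul_of_nonneg_left hlow hp1
  choose r hr hrle using hpair
  have hd0 : 0 < d := Nat.pos_of_ne_zero fun h => Chars.irr_apply_one_ne_zero χ (by rw [hd, h]; simp)
  have htot : ∑ g : G, r g = (Nat.card G : ℝ) * ((q : ℝ) * w) ^ 2 / d := by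
    apply Complex.ofReal_injective
    push_cast
    simp only [← hr]
    rw [Finset.sum_comm, ← hw, sq, Finset.sum_mul_sum, Finset.mul_sum, Finset.sum_div]
    refine Finset.sum_congr rfl fun a _ => ?_
    rw [Finset.sum_comm, Finset.mul_sum, Finset.sum_div]
    refine Finset.sum_congr rfl fun b _ => ?_
    rw [CharsElem.sum_irr_mul_conj, hd]
    ring
  have hsum : (Nat.card G : ℝ) * ((q : ℝ) ^ 2 * ((p : ℝ) * w - d)) ≤
      ((p : ℝ) - 1) * ((Nat.card G : ℝ) * ((q : ℝ) * w) ^ 2 / d) := by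
    rw [← htot, Finset.mul_sum]
    calc (Nat.card G : ℝ) * ((q : ℝ) ^ 2 * ((p : ℝ) * w - d))
        = ∑ _g : G, (q : ℝ) ^ 2 * ((p : ℝ) * w - d) := by
          rw [Finset.sum_const, Finset.card_univ, nsmul_eq_mul, Nat.card_eq_fintype_card]
      _ ≤ _ := Finset.sum_le_sum fun g _ => hrle g
  have hfin : ((p : ℝ) * w - d) * d ≤ ((p : ℝ) - 1) * (w : ℝ) ^ 2 := by
    have hpos : (0 : ℝ) < (Nat.card G : ℝ) * (q : ℝ) ^ 2 :=
      mul_pos (Nat.cast_pos.2 Nat.card_pos) (pow_pos (Nat.cast_pos.2 Nat.card_pos) 2)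
    have hdR : (0 : ℝ) < d := Nat.cast_pos.2 hd0
    rw [← mul_div_assoc, le_div_iff₀ hdR] at hsum
    refine le_of_mul_le_mul_left ?_ hpos
    calc (Nat.card G : ℝ) * (q : ℝ) ^ 2 * (((p : ℝ) * w - d) * d)
        = (Nat.card G : ℝ) * ((q : ℝ) ^ 2 * ((p : ℝ) * w - d)) * d := by ring
      _ ≤ _ := hsum
      _ = (Nat.card G : ℝ) * (q : ℝ) ^ 2 * (((p : ℝ) - 1) * (w : ℝ) ^ 2) := by ring
  by_contra hcon
  push Not at hcon
  obtain ⟨h1, h2⟩ := hcon
  have h1' : (d : ℝ) < ((p : ℝ) - 1) * w := by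
    have := (Nat.cast_lt (α := ℝ)).2 h1
    rwa [Nat.cast_mul, Nat.cast_sub hp.out.one_le, Nat.cast_one] at this
  have h2' : (w : ℝ) < d := by exact_mod_cast h2
  nlinarith [mul_pos (sub_pos.2 h1') (sub_pos.2 h2')]

end Cfsg.Agent.Lib.ExtClosedP
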