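import Mathlib
import Cfsg.Prelude.Def_CaseTheorems
import Cfsg.Agent.Lib.ExtremelyClosedP.Basic

/-!
# Extremely closed abelian p-subgroups: heredity

Extreme closure passes to subgroups and to all quotients.
-/

set_option autoImplicit false
set_option maxHeartbeats 400000
set_option linter.style.haveILetI false
set_option linter.unusedSectionVars false

namespace Cfsg.Agent.Lib.ExtClosedP

open Cfsg
open Cfsg.Agent.Lib

universe u

variable {G : Type u} [Group G] {H : Subgroup G}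

theorem cnj_map {G' : Type*} [Group G'] (f : G →* G') (g : G) (S : Subgroup G) :
    cnj (f g) (S.map f) = (cnj g S).map f := by
  simp only [cnj, Subgroup.map_map]
  congr 1
  ext x
  simp [mul_assoc]

theorem isExtremelyClosed_subgroupOf [Finite G] (hcl : IsExtremelyClosed H) {Y : Subgroup G} (hHY : H ≤ Y) :
    IsExtremelyClosed (H.subgroupOf Y) := by
  intro y
  refine le_antisymm (fun x hx => ?_)
    (le_inf le_sup_left Subgroup.le_normalizer)
  obtain ⟨hx1, hx2⟩ := Subgroup.mem_inf.1 hx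
  refine Subgroup.mem_subgroupOf.2 (mem_of_mem_sup_cnj hcl (g := (y : G)) ?_ ?_)
  · have h := Subgroup.mem_map_of_mem Y.subtype hx1
    rw [Subgroup.map_sup, ← cnj_map, Subgroup.map_subgroupOf_eq_of_le hHY] at h
    exact h
  · refine Subgroup.mem_normalizer_iff.2 fun z => ?_
    constructor
    · intro hz
      exact Subgroup.mem_subgroupOf.1
        ((Subgroup.mem_normalizer_iff.1 hx2 ⟨z, hHY hz⟩).1 (Subgroup.mem_subgroupOf.2 hz))
    · intro hz
      have hzY : z ∈ Y := by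
        have : (x : G)⁻¹ * ((x : G) * z * (x : G)⁻¹) * (x : G) ∈ Y :=
          Y.mul_mem (Y.mul_mem (Y.inv_mem x.2) (hHY hz)) x.2
        simpa [mul_assoc] using this
      exact Subgroup.mem_subgroupOf.1
        ((Subgroup.mem_normalizer_iff.1 hx2 ⟨z, hzY⟩).2 (Subgroup.mem_subgroupOf.2 hz))

variable [Finite G] {p : ℕ} [hp : Fact p.Prime]

/-- The p'-core of a subgroup, inside the group. -/
abbrev oc (p : ℕ) (Y : Subgroup G) : Subgroup G := (pPrimeCore p Y).map Y.subtype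

theorem oc_le (Y : Subgroup G) : oc p Y ≤ Y := Subgroup.map_subtype_le _

theorem oc_preg (Y : Subgroup G) : ¬ p ∣ Nat.card (oc p Y) := by
  rw [Subgroup.card_map_of_injective Y.subtype_injective]
  exact PSolvable.pPrimeCore_not_dvd

theorem conj_mem_oc {Y : Subgroup G} {y : G} (hy : y ∈ Y) {o : G} (ho : o ∈ oc p Y) :
    y * o * y⁻¹ ∈ oc p Y := by
  obtain ⟨o, ho', rfl⟩ := ho
  haveI := PSolvable.pPrimeCore_characteristic (p := p) (G := Y)
  exact ⟨⟨y, hy⟩ * o * ⟨y, hy⟩⁻¹, (inferInstance : (pPrimeCore p Y).Normal).conj_mem o ho' _, rfl⟩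

theorem le_normalizer_oc (Y : Subgroup G) : Y ≤ Subgroup.normalizer (oc p Y : Set G) := fun y hy =>
  mem_normalizer_of_cnj_eq (Subgroup.eq_of_le_of_card_ge
    (by rintro _ ⟨o, ho, rfl⟩; exact conj_mem_oc hy ho)
    (le_of_eq (Subgroup.card_map_of_injective (MulAut.conj _).injective).symm))

/-- All proper overgroups of `H` are products of the normalizer of `H` and their p'-core. -/
def FactorsBelow (p : ℕ) (H : Subgroup G) : Prop :=
  ∀ Y : Subgroup G, Y ≠ ⊤ → H ≤ Y → ∀ y ∈ Y, ∃ n ∈ Y, n ∈ Subgroup.normalizer (H : Set G) ∧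
    ∃ o ∈ oc p Y, y = n * o

theorem cnj_le_sup_oc (hfac : FactorsBelow p H) {Y : Subgroup G} (hY : Y ≠ ⊤) (hHY : H ≤ Y) {y : G}
    (hy : y ∈ Y) : cnj y H ≤ H ⊔ oc p Y := by
  obtain ⟨n, hn, hnN, o, ho, rfl⟩ := hfac Y hY hHY y hy
  rintro _ ⟨h, hh, rfl⟩
  have h1 : o * h * o⁻¹ ∈ H ⊔ oc p Y :=
    mul_mem (mul_mem (Subgroup.mem_sup_right ho) (Subgroup.mem_sup_left hh))
      (inv_mem (Subgroup.mem_sup_right ho))
  have h2 : cnj n (H ⊔ oc p Y) ≤ H ⊔ oc p Y := by
    rw [cnj, Subgroup.map_sup]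
    refine sup_le_sup (le_of_eq (cnj_of_mem_normalizer hnN)) ?_
    rintro _ ⟨q, hq, rfl⟩
    exact conj_mem_oc hn hq
  have := h2 (conj_mem_cnj (H := H ⊔ oc p Y) n h1)
  simpa [MulAut.conj_apply, mul_assoc] using this

variable (hH2 : IsPGroup p H) (hab : IsMulCommutative H) (hcl : IsExtremelyClosed H)
include hH2 hab hcl

theorem kOf_mem_of_mem {Y : Subgroup G} (hHY : H ≤ Y) {g : G} (h : cnj g H ≤ Y) :
    kOf hH2 hab hcl g ∈ Y :=
  sup_le hHY h (kOf_spec hH2 hab hcl g).1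

/-- A p'-element of a two-conjugate subgroup lying in a proper overgroup `Y` of `H` lies
in the p'-core of `Y`. -/
theorem preg_mem_oc (hfac : FactorsBelow p H) {Y : Subgroup G} (hY : Y ≠ ⊤) (hHY : H ≤ Y) {g u : G}
    (huX : u ∈ H ⊔ cnj g H) (huY : u ∈ Y) (ho : ¬ p ∣ orderOf u) : u ∈ oc p Y := by
  have hX : H ⊔ cnj u H ≤ H ⊔ cnj g H := sup_le le_sup_left (cnj_le_of_mem le_sup_left huX)
  have hk := kOf_spec hH2 hab hcl u
  have hn : nOf hH2 hab hcl u ∈ H :=
    mem_of_mem_sup_cnj hcl (mul_mem (inv_mem (hX hk.1)) huX) (nOf_mem hH2 hab hcl u)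
  have hu : u ∈ H ⊔ oc p Y := by
    rw [← kOf_mul_nOf hH2 hab hcl u]
    exact mul_mem (kOf_mem_of_mem hH2 hab hcl le_sup_left (cnj_le_sup_oc hfac hY hHY huY))
      (Subgroup.mem_sup_left hn)
  exact preg_mem_of_mem_sup hH2 (hHY.trans (le_normalizer_oc Y)) hu ho

theorem isExtremelyClosed_map_mk' (K : Subgroup G) [K.Normal] :
    IsExtremelyClosed (H.map (QuotientGroup.mk' K)) := by
  intro q
  obtain ⟨g, rfl⟩ := QuotientGroup.mk'_surjective K q
  refine le_antisymm (fun x hx => ?_) (le_inf le_sup_left Subgroup.le_normalizer)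
  obtain ⟨hx1, hx2⟩ := Subgroup.mem_inf.1 hx
  rw [show (H.map (QuotientGroup.mk' K)).map
      (MulAut.conj (QuotientGroup.mk' K g)).toMonoidHom = _ from cnj_map _ g H,
    ← Subgroup.map_sup] at hx1
  obtain ⟨x', hx', rfl⟩ := hx1
  have hle : cnj x' H ≤ H ⊔ K := by
    have h1 := cnj_of_mem_normalizer hx2
    rw [cnj_map] at h1
    calc cnj x' H ≤ ((cnj x' H).map (QuotientGroup.mk' K)).comap (QuotientGroup.mk' K) :=
          Subgroup.le_comap_map _ _
      _ = H ⊔ K := by rw [h1, Subgroup.comap_map_eq, QuotientGroup.ker_mk']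
  have hk := kOf_spec hH2 hab hcl x'
  have hn : nOf hH2 hab hcl x' ∈ H :=
    mem_of_mem_sup_cnj hcl
      (mul_mem (inv_mem (sup_le le_sup_left (cnj_le_of_mem le_sup_left hx') hk.1)) hx')
      (nOf_mem hH2 hab hcl x')
  have hmem : x' ∈ H ⊔ K := by
    rw [← kOf_mul_nOf hH2 hab hcl x']
    exact mul_mem (kOf_mem_of_mem hH2 hab hcl le_sup_left hle) (Subgroup.mem_sup_left hn)
  have := Subgroup.mem_map_of_mem (QuotientGroup.mk' K) hmem
  rwa [Subgroup.map_sup, QuotientGroup.map_mk'_self, sup_bot_eq] at this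

end Cfsg.Agent.Lib.ExtClosedP
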