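import Mathlib
import Cfsg.Agent.Lib.ExtremelyClosedP.Factor
import Cfsg.Agent.Lib.ExtremelyClosedP.Bound
import Cfsg.Agent.Lib.CharCount.Basic
import Cfsg.Agent.Lib.BrauerSuzukiQ.Section

/-!
# Extremely closed abelian p-subgroups, p odd: the principal block inequality

A group with trivial p'-core, generated by the conjugates of a noncentral extremely closed abelian
p-subgroup, cannot have all proper overgroups of it factoring.
-/

set_option autoImplicit false
set_option maxHeartbeats 1000000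
set_option linter.style.haveILetI false
set_option linter.unusedSectionVars false

namespace Cfsg.Agent.Lib.ExtClosedP

open Cfsg
open Cfsg.Agent.Lib
open Cfsg.Agent.Lib.BrauerSuzukiQ (pb mem_pb trivial_mem_pb finsum_pb)
open scoped ComplexConjugate

universe u

variable {G : Type u} [Group G] [Finite G] {p : ℕ} [hp : Fact p.Prime]
  {M : Ideal AlgInt} [M.IsPrime]

theorem secondMain_p (hM : IsPModular p M) (x : G) (hx : ∃ k : ℕ, orderOf x = p ^ k) :
    Blocks.PrincipalSection.SecondMain p M x :=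
  fun _B hB _χ hχ _b hb hnot _y hy => Blocks.secondMain_blockPart hM hx hB hχ rfl hb hnot hy

theorem orth_sections (hM : IsPModular p M) {g h x y : G} (hx : IsPPart p g x) (hy : IsPPart p h y)
    (hxy : ¬ IsConj x y) :
    ∑ χ ∈ pb M G, (χ : G → ℂ) g * conj ((χ : G → ℂ) h) = 0 := by
  rw [← finsum_pb]
  exact Blocks.block_orth_conj hM (Blocks.PrincipalSection.isPBlock_principalBlock M G) hx hy hxy

theorem orth_regular (hM : IsPModular p M) {g h : G} (hg : ¬ p ∣ orderOf g) (hh : p ∣ orderOf h) :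
    ∑ χ ∈ pb M G, (χ : G → ℂ) g * conj ((χ : G → ℂ) h) = 0 := by
  rw [← finsum_pb]
  exact Blocks.weak_block_orth hM (Blocks.PrincipalSection.isPBlock_principalBlock M G) hg hh

theorem dvd_orderOf_of_pow {h : G} (hh : ∃ k : ℕ, orderOf h = p ^ k) (h1 : h ≠ 1) :
    p ∣ orderOf h := by
  obtain ⟨k, hk⟩ := hh
  rcases k with - | k
  · exact absurd (orderOf_eq_one_iff.1 (by simpa using hk)) h1
  · exact ⟨p ^ k, by rw [hk, pow_succ']⟩

/-- The squared norm of a principal block column at `h` is at least the order of any p-subgroup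
of the centralizer. -/
theorem exists_column_ge (hM : IsPModular p M) {h : G} (hh : ∃ k : ℕ, orderOf h = p ^ k)
    (A : Subgroup G) (hA : IsPGroup p A) (hAC : A ≤ Subgroup.centralizer ({h} : Set G)) :
    ∃ L : ℕ, Nat.card A ≤ L ∧
      ∑ χ ∈ pb M G, (χ : G → ℂ) h * conj ((χ : G → ℂ) h) = (L : ℂ) := by
  classical
  cases nonempty_fintype G
  set C := Subgroup.centralizer ({h} : Set G)
  haveI : Fintype C := Fintype.ofFinite _
  haveI : Fintype (A.subgroupOf C) := Fintype.ofFinite _
  have hsec := Blocks.PrincipalSection.sum_norm_sq_eq hM hh (secondMain_p hM h hh) (1 : C)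
    (by simp [hp.out.ne_one])
  rw [finsum_pb, finsum_pb, OneMemClass.coe_one, mul_one] at hsec
  have hAc : Nat.card (A.subgroupOf C) = Nat.card A :=
    Nat.card_congr (Subgroup.subgroupOfEquivOfLe hAC).toEquiv
  choose k hk using fun ξ : IrrCharacter C => exists_mult (A.subgroupOf C) ξ
  choose e he0 he using fun ξ : IrrCharacter C => Chars.isIrrCharacter_exists_degree_pos ξ.2
  refine ⟨Nat.card A * ∑ ξ ∈ pb M C, e ξ * k ξ, Nat.le_mul_of_pos_right _ ?_, ?_⟩
  · refine lt_of_lt_of_le ?_ (Finset.single_le_sum (fun ξ _ => Nat.zero_le _) trivial_mem_pb)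
    have h1 := he (Chars.trivialIrr C)
    have h2 := hk (Chars.trivialIrr C)
    simp only [Chars.trivialIrr_apply, Finset.sum_const, Finset.card_univ, nsmul_eq_mul, mul_one,
      ← Nat.card_eq_fintype_card] at h1 h2
    have h1' : e (Chars.trivialIrr C) = 1 := by exact_mod_cast h1.symm
    have h2' : k (Chars.trivialIrr C) = 1 := by
      exact_mod_cast (mul_eq_left₀ (Nat.cast_ne_zero.2 Nat.card_pos.ne')).1 h2.symm
    rw [h1', h2']
    exact Nat.one_pos
  · have hC : ∑ χ ∈ pb M G, (χ : G → ℂ) h * conj ((χ : G → ℂ) h) =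
        ∑ ξ ∈ pb M C, (ξ : C → ℂ) 1 * conj ((ξ : C → ℂ) 1) := by
      simp only [Complex.mul_conj']
      exact_mod_cast hsec
    have h0 : ∑ a : A.subgroupOf C, ∑ ξ ∈ pb M C, (ξ : C → ℂ) 1 * conj ((ξ : C → ℂ) a) =
        ∑ ξ ∈ pb M C, (ξ : C → ℂ) 1 * conj ((ξ : C → ℂ) 1) := by
      rw [Finset.sum_eq_single (1 : A.subgroupOf C) ?_ (by simp), OneMemClass.coe_one]
      intro a _ ha
      refine orth_regular hM (by simp [hp.out.ne_one]) ?_
      rw [← Subgroup.orderOf_coe ((a : A.subgroupOf C) : C)]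
      exact dvd_orderOf_of_pow (exists_orderOf_pow hA (Subgroup.mem_subgroupOf.1 a.2))
        fun h' => ha (Subtype.ext (Subtype.ext h'))
    rw [hC, ← h0, Finset.sum_comm]
    push_cast
    rw [Finset.mul_sum]
    refine Finset.sum_congr rfl fun ξ _ => ?_
    rw [← Finset.mul_sum, ← map_sum, hk ξ, he ξ, hAc, map_mul, map_natCast, map_natCast]
    ring

variable {H : Subgroup G} (hH2 : IsPGroup p H) (hab : IsMulCommutative H)
  (hcl : IsExtremelyClosed H)
include hH2 hab hcl

theorem two_mul_fixed_le (hp2 : p ≠ 2) (hgenN : Subgroup.normalClosure (H : Set G) = ⊤) [Fintype H]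
    {χ : IrrCharacter G} (hne : χ ≠ Chars.trivialIrr G) {d w : ℕ}
    (hd : (χ : G → ℂ) 1 = d) (hw : ∑ h : H, (χ : G → ℂ) h = (Nat.card H : ℂ) * w) :
    2 * w ≤ d := by
  classical
  cases nonempty_fintype G
  rcases fixed_dim_bound hH2 hab hcl χ hd hw with h | h
  · have : 2 ≤ p - 1 := by have := hp.out.two_le; omega
    exact (Nat.mul_le_mul_right w this).trans h
  · exfalso
    obtain ⟨n, ρ, hirr, hχ⟩ := χ.2
    let : Invertible (Nat.card H : ℂ) := invertibleOfNonzero (Nat.cast_ne_zero.2 Nat.card_pos.ne')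
    let : Invertible (Nat.card G : ℂ) := invertibleOfNonzero (Nat.cast_ne_zero.2 Nat.card_pos.ne')
    set W := Representation.invariants (ρ.comp H.subtype) with hW
    have hdn : d = n := by
      have := hd
      rw [← hχ, Representation.char_one, Module.finrank_fintype_fun_eq_card,
        Fintype.card_fin] at this
      exact_mod_cast this.symm
    have hwW : w = Module.finrank ℂ W := by
      have e := Representation.card_inv_mul_sum_char_eq_finrank (ρ.comp H.subtype)
      rw [show ∑ g : H, Representation.character (ρ.comp H.subtype) g =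
        ∑ g : H, (χ : G → ℂ) g by rw [← hχ]; rfl, hw, ← mul_assoc,
        inv_mul_cancel₀ (Nat.cast_ne_zero.2 Nat.card_pos.ne'), one_mul] at e
      exact_mod_cast e
    have htop : W = ⊤ := Submodule.eq_top_of_finrank_eq (le_antisymm (Submodule.finrank_le _)
      (by rw [Module.finrank_fintype_fun_eq_card, Fintype.card_fin]; omega))
    have hker : H ≤ MonoidHom.ker (ρ : G →* Module.End ℂ (Fin n → ℂ)) := by
      intro x hx
      rw [MonoidHom.mem_ker]
      refine LinearMap.ext fun v => ?_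
      have : v ∈ W := htop ▸ Submodule.mem_top
      exact this ⟨x, hx⟩
    have hall : Subgroup.normalClosure (H : Set G) ≤
        MonoidHom.ker (ρ : G →* Module.End ℂ (Fin n → ℂ)) :=
      Subgroup.normalClosure_le_normal hker
    rw [hgenN] at hall
    have hinv := Representation.card_inv_mul_sum_char_eq_finrank ρ
    have h0 := Chars.classInner_irr_of_ne hne
    simp only [classInner, Chars.trivialIrr_apply, map_one, mul_one] at h0
    rw [hχ, h0] at hinv
    have htop' : Representation.invariants ρ = ⊤ := eq_top_iff.2 fun v _ x => by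
      rw [MonoidHom.mem_ker.1 (hall (Subgroup.mem_top x))]
      rfl
    rw [htop', finrank_top, Module.finrank_fintype_fun_eq_card, Fintype.card_fin] at hinv
    have hn : n = 0 := by exact_mod_cast hinv.symm
    refine Chars.irr_apply_one_ne_zero χ ?_
    rw [hd, hdn, hn, Nat.cast_zero]

/-- The contradiction for p odd. -/
theorem false_of_minimal (hp2 : p ≠ 2) (hH1 : H ≠ ⊥) (hfac : FactorsBelow p H)
    (hcenter : ∀ h ∈ H, h ∈ Subgroup.center G → h = 1)
    (hgenN : Subgroup.normalClosure (H : Set G) = ⊤) (hO : pPrimeCore p G = ⊥) : False := by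
  classical
  cases nonempty_fintype G
  obtain ⟨M, hM⟩ := CharCount.exists_isPModular p hp.out
  haveI : M.IsPrime := hM.2.1.isPrime
  haveI : Fintype H := Fintype.ofFinite _
  set N := Subgroup.normalizer (H : Set G) with hN
  set q := Nat.card H with hq
  set Hs : Finset G := Finset.univ.filter (fun x => x ∈ H ∧ x ≠ 1) with hHs
  have memHs : ∀ x, x ∈ Hs ↔ x ∈ H ∧ x ≠ 1 := fun x => by simp [hHs]
  set B := pb M G with hB
  choose m hm using fun χ : IrrCharacter G => exists_mult H χ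
  choose d hd0 hd using fun χ : IrrCharacter G => Chars.isIrrCharacter_exists_degree_pos χ.2
  set S : IrrCharacter G → ℂ := fun χ => ∑ h ∈ Hs, (χ : G → ℂ) h with hS
  set Sz : IrrCharacter G → ℤ := fun χ => (q : ℤ) * m χ - d χ with hSz
  have hall : ∀ φ : G → ℂ, ∑ a : H, φ a = φ 1 + ∑ h ∈ Hs, φ h := by
    intro φ
    have e : ∑ a : H, φ a = ∑ x ∈ Finset.univ.filter (fun x => x ∈ H), φ x :=
      (Finset.sum_subtype (Finset.univ.filter (fun x => x ∈ H)) (by simp) φ).symm
    rw [e, ← Finset.add_sum_erase _ _ (show (1 : G) ∈ _ by simp [H.one_mem])]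
    refine congrArg _ (Finset.sum_congr ?_ fun _ _ => rfl)
    ext x
    simp [hHs, and_comm]
  have hSval : ∀ χ, S χ = (Sz χ : ℂ) := by
    intro χ
    have h := hm χ
    rw [hall, hd χ] at h
    simp only [hS, hSz, ← hq] at h ⊢
    push_cast
    linear_combination h
  have hcard : Hs.card + 1 = q := by
    have h := hall (fun _ => 1)
    simp only [Finset.sum_const, Finset.card_univ, nsmul_eq_mul, mul_one,
      ← Nat.card_eq_fintype_card, ← hq] at h
    have h' : q = 1 + Hs.card := by exact_mod_cast h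
    omega
  have hnHs : ∀ n ∈ N, ∀ b ∈ Hs, n * b * n⁻¹ ∈ Hs := by
    intro n hn b hb
    rw [memHs] at hb ⊢
    exact ⟨(Subgroup.mem_normalizer_iff.1 hn b).1 hb.1, by simpa using hb.2⟩
  have hval : ∀ a ∈ Hs, ∀ b ∈ Hs, ∀ g : G,
      ∑ χ ∈ B, (χ : G → ℂ) (a * (g * b * g⁻¹)) * conj (S χ) =
        if a * (nOf hH2 hab hcl g * b * (nOf hH2 hab hcl g)⁻¹) = 1 then 0
        else ∑ χ ∈ B, (χ : G → ℂ) (a * (nOf hH2 hab hcl g * b * (nOf hH2 hab hcl g)⁻¹)) *
          conj (S χ) := by
    intro a ha b hb g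
    rw [memHs] at ha hb
    obtain ⟨v, hvX, hvo, hvc, hconj⟩ := exists_isConj_mul hH2 hab hcl ha.1 hb.1 g
    set c := a * (nOf hH2 hab hcl g * b * (nOf hH2 hab hcl g)⁻¹) with hc
    have hcH : c ∈ H :=
      H.mul_mem ha.1 ((Subgroup.mem_normalizer_iff.1 (nOf_mem hH2 hab hcl g) b).1 hb.1)
    have hrew : ∀ χ : IrrCharacter G, (χ : G → ℂ) (a * (g * b * g⁻¹)) = (χ : G → ℂ) (c * v) :=
      fun χ => by
        obtain ⟨w, hw⟩ := isConj_iff.1 hconj
        rw [← hw, Chars.irr_isClassFunction χ]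
    simp only [hrew]
    split_ifs with h1
    · simp only [h1, one_mul, hS, map_sum, Finset.mul_sum]
      rw [Finset.sum_comm]
      refine Finset.sum_eq_zero fun h hh => ?_
      rw [memHs] at hh
      exact orth_regular hM hvo (dvd_orderOf_of_pow (exists_orderOf_pow hH2 hh.1) hh.2)
    · refine Finset.sum_congr rfl fun χ hχ => ?_
      congr 1
      have hC : Subgroup.centralizer ({c} : Set G) ≠ ⊤ := fun htop => h1 (hcenter c hcH
        (Subgroup.mem_center_iff.2 fun x => Subgroup.mem_centralizer_singleton_iff.1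
          (htop ▸ Subgroup.mem_top x)))
      have hHC : H ≤ Subgroup.centralizer ({c} : Set G) := fun x hx =>
        Subgroup.mem_centralizer_singleton_iff.2 (commute_of_mem hab hx hcH).eq
      have hvC : v ∈ Subgroup.centralizer ({c} : Set G) :=
        Subgroup.mem_centralizer_singleton_iff.2 hvc.eq.symm
      exact Blocks.PrincipalSection.apply_mul_eq hM (exists_orderOf_pow hH2 hcH)
        (secondMain_p hM c (exists_orderOf_pow hH2 hcH))
        (show v ∈ centralizerPPrimeCore p c from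
          preg_mem_oc hH2 hab hcl hfac hC hHC hvX hvC hvo) (mem_pb.1 hχ)
  set Φ : G → ℂ := fun c => ∑ χ ∈ B, (χ : G → ℂ) c * conj (S χ) with hΦ
  set T : ℂ := ∑ c ∈ Hs, Φ c with hT
  have hgsum : ∀ g : G, ∑ a ∈ Hs, ∑ b ∈ Hs, ∑ χ ∈ B,
      (χ : G → ℂ) (a * (g * b * g⁻¹)) * conj (S χ) = ((Hs.card : ℂ) - 1) * T := by
    intro g
    set n := nOf hH2 hab hcl g
    have hn := nOf_mem hH2 hab hcl g
    have inner : ∀ a ∈ Hs, (∑ b ∈ Hs, ∑ χ ∈ B,
        (χ : G → ℂ) (a * (g * b * g⁻¹)) * conj (S χ)) = T - Φ a := by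
      intro a ha
      rw [Finset.sum_congr rfl fun b hb => hval a ha b hb g, Finset.sum_ite,
        Finset.sum_const_zero, zero_add, eq_sub_iff_add_eq, hT,
        ← Finset.sum_erase_add _ _ ha]
      congr 1
      have haH := ((memHs a).1 ha).1
      refine Finset.sum_bij' (fun b _ => a * (n * b * n⁻¹)) (fun c _ => n⁻¹ * (a⁻¹ * c) * n)
        ?_ ?_ ?_ ?_ ?_
      · intro b hb
        simp only [Finset.mem_filter] at hb
        have hb' := (memHs _).1 (hnHs n hn b hb.1)
        rw [Finset.mem_erase, memHs]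
        exact ⟨fun he => hb'.2 (mul_eq_left.1 he), H.mul_mem haH hb'.1, hb.2⟩
      · intro c hc
        rw [Finset.mem_erase, memHs] at hc
        simp only [Finset.mem_filter]
        refine ⟨?_, fun he => hc.2.2 (by
          rw [← he]; simp only [n]; group)⟩
        have := hnHs n⁻¹ (inv_mem hn) (a⁻¹ * c) ((memHs _).2
          ⟨H.mul_mem (H.inv_mem haH) hc.2.1, fun h => hc.1 (inv_mul_eq_one.1 h).symm⟩)
        simpa using this
      · intros; group
      · intros; group
      · intros; rfl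
    rw [Finset.sum_congr rfl inner, Finset.sum_sub_distrib, Finset.sum_const, nsmul_eq_mul, ← hT]
    ring
  have hTS : T = ∑ χ ∈ B, (Sz χ : ℂ) ^ 2 := by
    rw [hT]
    simp only [hΦ]
    rw [Finset.sum_comm]
    refine Finset.sum_congr rfl fun χ _ => ?_
    rw [← Finset.sum_mul, show ∑ h ∈ Hs, (χ : G → ℂ) h = (Sz χ : ℂ) from hSval χ, hSval,
      map_intCast, sq]
  have hmain : ∑ χ ∈ B, (Sz χ : ℂ) ^ 3 / (d χ : ℂ) =
      ((Hs.card : ℂ) - 1) * ∑ χ ∈ B, (Sz χ : ℂ) ^ 2 := by
    have hG : (Nat.card G : ℂ) ≠ 0 := Chars.natCard_ne_zero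
    apply mul_left_cancel₀ hG
    have h := Finset.sum_congr rfl fun g (_ : g ∈ (Finset.univ : Finset G)) => hgsum g
    rw [Finset.sum_const, Finset.card_univ, nsmul_eq_mul, ← Nat.card_eq_fintype_card, hTS] at h
    simp only [hSval, map_intCast] at h
    refine Eq.trans ?_ h
    rw [Finset.sum_comm, Finset.mul_sum]
    have step : ∀ a : G, ∑ g : G, ∑ b ∈ Hs, ∑ χ ∈ B,
        (χ : G → ℂ) (a * (g * b * g⁻¹)) * (Sz χ : ℂ) =
        ∑ b ∈ Hs, ∑ χ ∈ B, (Nat.card G : ℂ) * (χ : G → ℂ) a * (χ : G → ℂ) b / (d χ : ℂ) *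
          (Sz χ : ℂ) := by
      intro a
      rw [Finset.sum_comm]
      refine Finset.sum_congr rfl fun b _ => ?_
      rw [Finset.sum_comm]
      refine Finset.sum_congr rfl fun χ _ => ?_
      rw [← Finset.sum_mul, CharCount.sum_conj_mul χ a b, hd χ]
    rw [Finset.sum_congr rfl fun a (_ : a ∈ Hs) => step a]
    conv_rhs => enter [2, a]; rw [Finset.sum_comm]
    rw [Finset.sum_comm]
    refine Finset.sum_congr rfl fun χ _ => ?_
    simp only [← Finset.sum_mul, ← Finset.sum_div, ← Finset.mul_sum,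
      show ∑ h ∈ Hs, (χ : G → ℂ) h = (Sz χ : ℂ) from hSval χ]
    ring
  have horth : ∑ χ ∈ B, ((d χ : ℤ) * Sz χ) = 0 := by
    have : ((∑ χ ∈ B, ((d χ : ℤ) * Sz χ) : ℤ) : ℂ) = 0 := by
      push_cast
      have e : ∀ χ ∈ B, (d χ : ℂ) * (Sz χ : ℂ) =
          ∑ h ∈ Hs, (χ : G → ℂ) 1 * conj ((χ : G → ℂ) h) := by
        intro χ _
        rw [← Finset.mul_sum, ← map_sum, show ∑ h ∈ Hs, (χ : G → ℂ) h = (Sz χ : ℂ) from hSval χ,
          map_intCast, hd χ]
      rw [Finset.sum_congr rfl e, Finset.sum_comm]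
      refine Finset.sum_eq_zero fun h hh => ?_
      exact orth_regular hM (by simp [hp.out.ne_one])
        (dvd_orderOf_of_pow (exists_orderOf_pow hH2 ((memHs h).1 hh).1) ((memHs h).1 hh).2)
    exact_mod_cast this
  -- the upper bound
  obtain ⟨x, hx, hx1⟩ := (Subgroup.bot_or_exists_ne_one H).resolve_left hH1
  have hq3 : 3 ≤ q := by
    obtain ⟨k, hk⟩ := hH2.exists_card_eq
    rcases k with - | k
    · exact absurd (Subgroup.eq_bot_of_card_eq H (by rw [hk, pow_zero])) hH1
    · have : 3 ≤ p := by have := hp.out.two_le; omega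
      rw [hq, hk, pow_succ]
      exact le_trans this (Nat.le_mul_of_pos_left _ (pow_pos hp.out.pos _))
  have htriv : d (Chars.trivialIrr G) = 1 ∧ Sz (Chars.trivialIrr G) = (q : ℤ) - 1 := by
    have h1 := hd (Chars.trivialIrr G)
    have h2 := hm (Chars.trivialIrr G)
    simp only [Chars.trivialIrr_apply, Finset.sum_const, Finset.card_univ, nsmul_eq_mul, mul_one,
      ← Nat.card_eq_fintype_card] at h1 h2
    have h1' : d (Chars.trivialIrr G) = 1 := by exact_mod_cast h1.symm
    have h2' : m (Chars.trivialIrr G) = 1 := by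
      exact_mod_cast (mul_eq_left₀ (Nat.cast_ne_zero.2 Nat.card_pos.ne')).1 h2.symm
    exact ⟨h1', by simp only [hSz, h1', h2']; simp⟩
  set B' := B.erase (Chars.trivialIrr G) with hB'
  have hB1 : Chars.trivialIrr G ∈ B := trivial_mem_pb
  set R : IrrCharacter G → ℝ :=
    fun χ => (Sz χ : ℝ) ^ 2 * (((q : ℝ) - 2) - 2 * (Sz χ : ℝ) / (d χ : ℝ)) with hR
  have hRnn : ∀ χ ∈ B', 0 ≤ R χ := by
    intro χ hχ
    have hb := two_mul_fixed_le hH2 hab hcl hp2 hgenN (Finset.ne_of_mem_erase hχ) (hd χ) (hm χ)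
    have hdpos : (0 : ℝ) < d χ := by exact_mod_cast hd0 χ
    refine mul_nonneg (sq_nonneg _) (sub_nonneg.2 ((div_le_iff₀ hdpos).2 ?_))
    simp only [hSz]
    push_cast
    have : (2 : ℝ) * m χ ≤ d χ := by exact_mod_cast hb
    nlinarith [Nat.cast_nonneg (α := ℝ) q]
  have hRpos : 0 < ∑ χ ∈ B', R χ := by
    refine lt_of_le_of_ne (Finset.sum_nonneg hRnn) fun h0 => ?_
    have hz := (Finset.sum_eq_zero_iff_of_nonneg hRnn).1 h0.symm
    have hnn : ∀ χ ∈ B', 0 ≤ (d χ : ℤ) * Sz χ := by
      intro χ hχ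
      have hq3' : (3 : ℝ) ≤ q := by exact_mod_cast hq3
      have hdpos : (0 : ℝ) < d χ := by exact_mod_cast hd0 χ
      have hz' := hz χ hχ
      simp only [hR] at hz'
      have : (0 : ℝ) ≤ (Sz χ : ℝ) := by
        rcases mul_eq_zero.1 hz' with h | h
        · rw [(pow_eq_zero_iff two_ne_zero).1 h]
        · field_simp at h
          nlinarith
      exact mul_nonneg (Nat.cast_nonneg _) (by exact_mod_cast this)
    have h1 := horth
    rw [← Finset.add_sum_erase _ _ hB1, ← hB', htriv.1, htriv.2] at h1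
    have := Finset.sum_nonneg hnn
    push_cast at h1
    have : (3 : ℤ) ≤ q := by exact_mod_cast hq3
    linarith
  have hmainR : ∑ χ ∈ B, (Sz χ : ℝ) ^ 3 / (d χ : ℝ) =
      ((Hs.card : ℝ) - 1) * ∑ χ ∈ B, (Sz χ : ℝ) ^ 2 := by
    apply Complex.ofReal_injective
    push_cast
    exact hmain
  have hcardR : (Hs.card : ℝ) = (q : ℝ) - 1 := by
    rw [← hcard]; push_cast; ring
  set TR := ∑ χ ∈ B, (Sz χ : ℝ) ^ 2 with hTR
  have hupper : ((q : ℝ) - 2) * TR < ((q : ℝ) - 1) ^ 2 * q := by
    have e1 : ∑ χ ∈ B', R χ = ((q : ℝ) - 2) * ∑ χ ∈ B', (Sz χ : ℝ) ^ 2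
        - 2 * ∑ χ ∈ B', (Sz χ : ℝ) ^ 3 / (d χ : ℝ) := by
      rw [Finset.mul_sum, Finset.mul_sum, ← Finset.sum_sub_distrib]
      exact Finset.sum_congr rfl fun χ _ => by simp only [hR]; ring
    have e2 : TR = ((q : ℝ) - 1) ^ 2 + ∑ χ ∈ B', (Sz χ : ℝ) ^ 2 := by
      rw [hTR, ← Finset.add_sum_erase _ _ hB1, ← hB', htriv.2]
      push_cast
      ring
    rw [← Finset.add_sum_erase _ _ hB1, ← hB', htriv.1, htriv.2, hcardR, e2] at hmainR
    push_cast at hmainR
    rw [e2]
    nlinarith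
  -- the lower bound
  set cls : G → Finset G := fun h => Hs.filter (fun c => IsConj h c) with hcls
  have hlower : ∀ L : G → ℕ,
      (∀ h ∈ Hs, ∑ χ ∈ B, (χ : G → ℂ) h * conj ((χ : G → ℂ) h) = (L h : ℂ)) →
      TR = ((∑ h ∈ Hs, (cls h).card * L h : ℕ) : ℝ) := by
    intro L hL
    apply Complex.ofReal_injective
    rw [hTR]
    push_cast
    rw [← hTS, hT]
    refine Finset.sum_congr rfl fun h hh => ?_
    simp only [hΦ, hS, map_sum, Finset.mul_sum]
    rw [Finset.sum_comm, ← hL h hh, hcls, Finset.card_filter, Nat.cast_sum, Finset.sum_mul]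
    refine Finset.sum_congr rfl fun c hc => ?_
    split_ifs with hcj
    · obtain ⟨w, hw⟩ := isConj_iff.1 hcj
      rw [Nat.cast_one, one_mul]
      refine Finset.sum_congr rfl fun χ _ => ?_
      rw [← hw, Chars.irr_isClassFunction χ]
    · rw [Nat.cast_zero, zero_mul]
      exact orth_sections hM
        (Blocks.isPPart_self_of_pElement (exists_orderOf_pow hH2 ((memHs _).1 hh).1))
        (Blocks.isPPart_self_of_pElement (exists_orderOf_pow hH2 ((memHs _).1 hc).1)) hcj
  have hcls1 : ∀ h ∈ Hs, 1 ≤ (cls h).card := fun h hh =>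
    Finset.card_pos.2 ⟨h, Finset.mem_filter.2 ⟨hh, IsConj.refl _⟩⟩
  -- the subgroup of fixed elements
  let F : Subgroup G :=
    { carrier := {h | h ∈ H ∧ ∀ n ∈ N, n * h * n⁻¹ = h}
      one_mem' := ⟨H.one_mem, fun n _ => by simp⟩
      mul_mem' := fun {a b} ha hb => ⟨H.mul_mem ha.1 hb.1, fun n hn => by
        rw [← conj_mul, ha.2 n hn, hb.2 n hn]⟩
      inv_mem' := fun {a} ha => ⟨H.inv_mem ha.1, fun n hn => by
        rw [← conj_inv, ha.2 n hn]⟩ }
  have hFH : F ≤ H := fun h hh => hh.1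
  by_cases hFeq : F = H
  · have hfix : ∀ h ∈ H, ∀ n ∈ N, n * h * n⁻¹ = h := fun h hh => (hFeq.symm ▸ hh : h ∈ F).2
    obtain ⟨P, hP⟩ := hH2.exists_le_sylow
    by_cases hPH : (P : Subgroup G) = H
    · -- Burnside
      have hNC : Subgroup.normalizer ((P : Subgroup G) : Set G) ≤
          Subgroup.centralizer ((P : Subgroup G) : Set G) := by
        rw [hPH]
        intro n hn
        rw [Subgroup.mem_centralizer_iff]
        intro h hh
        exact (mul_inv_eq_iff_eq_mul.1 (hfix h hh n hn)).symm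
      have hK := MonoidHom.ker_transferSylow_isComplement' P hNC
      have hKb : (MonoidHom.transferSylow P hNC).ker = ⊥ := by
        rw [← le_bot_iff, ← hO]
        exact PSolvable.le_pPrimeCore
          (hp.out.coprime_iff_not_dvd.2 (MonoidHom.not_dvd_card_ker_transferSylow P hNC)).symm
      rw [hKb, hPH, Subgroup.isComplement'_bot_left] at hK
      refine hx1 (hcenter x hx (Subgroup.mem_center_iff.2 fun g => ?_))
      exact ((commute_of_mem hab hx (hK ▸ Subgroup.mem_top g : g ∈ H)).eq).symm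
    · -- a larger p-subgroup centralizing H
      obtain ⟨A, hA, hAN, hAcard⟩ : ∃ A : Subgroup G, IsPGroup p A ∧ A ≤ N ∧ p * q ≤ Nat.card A := by
        have hlt : H < (P : Subgroup G) := lt_of_le_of_ne hP (Ne.symm hPH)
        refine ⟨(P : Subgroup G) ⊓ N, P.isPGroup'.to_le inf_le_left, inf_le_right, ?_⟩
        haveI := P.isPGroup'.isNilpotent
        have hnc := Group.normalizerCondition_of_isNilpotent (G := (P : Subgroup G))
        have hlt' : H.subgroupOf P < ⊤ :=
          lt_top_iff_ne_top.2 fun h => hlt.not_ge (Subgroup.subgroupOf_eq_top.1 h)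
        obtain ⟨y, hy, hyn⟩ := SetLike.exists_of_lt (hnc _ hlt')
        have hyN : (y : G) ∈ N := by
          refine mem_normalizer_of_cnj_eq ?_
          have h := congrArg (Subgroup.map (P : Subgroup G).subtype) (cnj_of_mem_normalizer hy)
          rwa [← cnj_map, Subgroup.map_subgroupOf_eq_of_le hP] at h
        have hlt2 : H < (P : Subgroup G) ⊓ N :=
          lt_of_le_of_ne (le_inf hP Subgroup.le_normalizer) fun he =>
            hyn (Subgroup.mem_subgroupOf.2 (he.symm ▸ ⟨y.2, hyN⟩))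
        obtain ⟨i, hi⟩ := (P.isPGroup'.to_le (inf_le_left : (P : Subgroup G) ⊓ N ≤ _)).exists_card_eq
        obtain ⟨j, hj⟩ := hH2.exists_card_eq
        have hcl' : q < Nat.card ((P : Subgroup G) ⊓ N : Subgroup G) :=
          lt_of_le_of_ne (Nat.le_of_dvd Nat.card_pos (Subgroup.card_dvd_of_le hlt2.le))
            fun he => hlt2.ne (Subgroup.eq_of_le_of_card_ge hlt2.le he.ge)
        rw [hi, hq, hj] at hcl' ⊢
        rw [← pow_succ']
        exact Nat.pow_le_pow_right hp.out.pos ((Nat.pow_lt_pow_iff_right hp.out.one_lt).1 hcl')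
      have hAC : ∀ h ∈ Hs, A ≤ Subgroup.centralizer ({h} : Set G) := fun h hh a ha =>
        Subgroup.mem_centralizer_singleton_iff.2
          (mul_inv_eq_iff_eq_mul.1 (hfix h ((memHs h).1 hh).1 a (hAN ha)))
      choose! L hL hLeq using fun h (hh : h ∈ Hs) =>
        exists_column_ge hM (exists_orderOf_pow hH2 ((memHs h).1 hh).1) A hA (hAC h hh)
      have h1 := hlower L hLeq
      have h2 : Hs.card * (p * q) ≤ ∑ h ∈ Hs, (cls h).card * L h := by
        rw [← smul_eq_mul, ← Finset.sum_const]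
        refine Finset.sum_le_sum fun h hh => ?_
        calc p * q ≤ 1 * L h := by rw [one_mul]; exact hAcard.trans (hL h hh)
          _ ≤ _ := Nat.mul_le_mul_right _ (hcls1 h hh)
      have h3 : ((q : ℝ) - 1) * ((p : ℝ) * q) ≤ TR := by
        rw [h1, ← hcardR]
        exact_mod_cast h2
      have hp3 : (3 : ℝ) ≤ p := by
        have : 3 ≤ p := by have := hp.out.two_le; omega
        exact_mod_cast this
      have hq3' : (3 : ℝ) ≤ q := by exact_mod_cast hq3
      have h4 : ((q : ℝ) - 2) * (((q : ℝ) - 1) * ((p : ℝ) * q)) < ((q : ℝ) - 1) ^ 2 * q :=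
        lt_of_le_of_lt (mul_le_mul_of_nonneg_left h3 (by linarith)) hupper
      have h5 : ((q : ℝ) - 1) ^ 2 * q ≤ ((q : ℝ) - 2) * (((q : ℝ) - 1) * ((p : ℝ) * q)) := by
        have : (q : ℝ) - 1 ≤ ((q : ℝ) - 2) * p := by nlinarith
        nlinarith [mul_le_mul_of_nonneg_left this (show (0 : ℝ) ≤ ((q : ℝ) - 1) * q by nlinarith)]
      linarith
  · -- some element is moved
    choose! L hL hLeq using fun h (hh : h ∈ Hs) =>
      exists_column_ge hM (exists_orderOf_pow hH2 ((memHs h).1 hh).1) H hH2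
        (fun a ha => Subgroup.mem_centralizer_singleton_iff.2
          (commute_of_mem hab ha ((memHs h).1 hh).1).eq)
    have h1 := hlower L hLeq
    have hr : p * Nat.card F ≤ q := by
      obtain ⟨j, hj⟩ := (hH2.to_le hFH).exists_card_eq
      obtain ⟨i, hi⟩ := hH2.exists_card_eq
      have hlt : Nat.card F < q :=
        lt_of_le_of_ne (Nat.le_of_dvd Nat.card_pos (Subgroup.card_dvd_of_le hFH))
          fun he => hFeq (Subgroup.eq_of_le_of_card_ge hFH he.ge)
      rw [hj, hq, hi] at hlt ⊢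
      rw [← pow_succ']
      exact Nat.pow_le_pow_right hp.out.pos ((Nat.pow_lt_pow_iff_right hp.out.one_lt).1 hlt)
    have hFs : (Hs.filter (fun h => h ∈ F)).card + 1 ≤ Nat.card F := by
      have hsub : insert (1 : G) (Hs.filter (fun h => h ∈ F)) ⊆
          Finset.univ.filter (fun h => h ∈ F) := by
        intro y hy
        simp only [Finset.mem_insert, Finset.mem_filter] at hy
        rcases hy with rfl | hy
        · simp [F.one_mem]
        · simp [hy.2]
      have := Finset.card_le_card hsub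
      rw [Finset.card_insert_of_notMem (by simp [memHs])] at this
      rwa [← Fintype.card_subtype, ← Nat.card_eq_fintype_card] at this
    have hcls2 : ∀ h ∈ Hs, h ∉ F → 2 ≤ (cls h).card := by
      intro h hh hhF
      obtain ⟨n, hn, hne⟩ : ∃ n ∈ N, n * h * n⁻¹ ≠ h := by
        by_contra hno
        push Not at hno
        exact hhF ⟨((memHs h).1 hh).1, hno⟩
      exact Finset.one_lt_card.2 ⟨h, Finset.mem_filter.2 ⟨hh, IsConj.refl _⟩, n * h * n⁻¹,
        Finset.mem_filter.2 ⟨hnHs n hn h hh, isConj_iff.2 ⟨n, rfl⟩⟩, hne.symm⟩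
    have h2 : q * (2 * Hs.card) ≤
        (∑ h ∈ Hs, (cls h).card * L h) + q * (Hs.filter (fun h => h ∈ F)).card := by
      rw [show (Hs.filter (fun h => h ∈ F)).card = ∑ h ∈ Hs, if h ∈ F then 1 else 0 from
          Finset.card_filter _ _, Finset.mul_sum, ← Finset.sum_add_distrib,
        show q * (2 * Hs.card) = ∑ _h ∈ Hs, 2 * q by rw [Finset.sum_const, smul_eq_mul]; ring]
      refine Finset.sum_le_sum fun h hh => ?_
      have hLq : q ≤ L h := hL h hh
      split_ifs with hhF
      · calc 2 * q = 1 * q + q * 1 := by ring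
          _ ≤ _ := Nat.add_le_add_right (Nat.mul_le_mul (hcls1 h hh) hLq) _
      · exact le_add_right (Nat.mul_le_mul (hcls2 h hh hhF) hLq)
    have h3 : (q : ℝ) * (2 * ((q : ℝ) - 1)) - q * ((q : ℝ) / 3 - 1) ≤ TR := by
      have e : ((q * (2 * Hs.card) : ℕ) : ℝ) ≤
          (((∑ h ∈ Hs, (cls h).card * L h) + q * (Hs.filter (fun h => h ∈ F)).card : ℕ) : ℝ) := by
        exact_mod_cast h2
      rw [Nat.cast_add, ← h1] at e
      push_cast at e
      have e2 : ((Hs.filter (fun h => h ∈ F)).card : ℝ) ≤ (q : ℝ) / 3 - 1 := by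
        have h3p : 3 ≤ p := by have := hp.out.two_le; omega
        have : 3 * ((Hs.filter (fun h => h ∈ F)).card + 1) ≤ q :=
          (Nat.mul_le_mul h3p hFs).trans hr
        have : (3 : ℝ) * (((Hs.filter (fun h => h ∈ F)).card : ℝ) + 1) ≤ q := by exact_mod_cast this
        linarith
      rw [← hcardR]
      nlinarith [mul_le_mul_of_nonneg_left e2 (Nat.cast_nonneg (α := ℝ) q)]
    have hq3' : (3 : ℝ) ≤ q := by exact_mod_cast hq3
    have h4 := lt_of_le_of_lt (mul_le_mul_of_nonneg_left h3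
      (show (0 : ℝ) ≤ (q : ℝ) - 2 by linarith)) hupper
    have h5 : ((q : ℝ) - 1) ^ 2 * q ≤
        ((q : ℝ) - 2) * ((q : ℝ) * (2 * ((q : ℝ) - 1)) - q * ((q : ℝ) / 3 - 1)) := by
      nlinarith [mul_nonneg (mul_nonneg (show (0 : ℝ) ≤ (q : ℝ) by linarith)
        (show (0 : ℝ) ≤ 2 * (q : ℝ) - 1 by linarith)) (show (0 : ℝ) ≤ (q : ℝ) - 3 by linarith)]
    linarith

end Cfsg.Agent.Lib.ExtClosedP
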