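import Mathlib
import Cfsg.Agent.Lib.ExtremelyClosedP.Factor
import Cfsg.Agent.Lib.Glauberman.CyclicCorr
import Cfsg.Agent.Lib.Glauberman.Bridge
import Cfsg.Agent.Lib.Coprime.Quotient
import Cfsg.Agent.Lib.CharsElem
import Cfsg.Agent.Lib.Clifford.Gallagher
import Cfsg.Agent.Lib.Chars.Ops

/-!
# An extremely closed abelian p-subgroup (p odd) is fixed point free on `[O, H]`

For a p'-subgroup `O` normalised by `H`, every `H`-invariant irreducible character of `O` is trivial
on `[O, H]`; by the Glauberman count this forces `C_{[O,H]}(H) = 1`.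
-/

set_option autoImplicit false
set_option maxHeartbeats 400000
set_option linter.style.haveILetI false
set_option linter.unusedSectionVars false

namespace Cfsg.Agent.Lib.ExtClosedP

open Cfsg
open Cfsg.Agent.Lib
open scoped commutatorElement

universe u

variable {G : Type u} [Group G] [Finite G] {p : ℕ} [hp : Fact p.Prime] {H : Subgroup G}

theorem mem_of_preg_mem_two_conj (hH2 : IsPGroup p H) {O : Subgroup G}
    (hHO : H ≤ Subgroup.normalizer (O : Set G)) {o z : G} (ho : o ∈ O)
    (hz : z ∈ H ⊔ cnj o H) (hzp : ¬ p ∣ orderOf z) : z ∈ O := by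
  refine preg_mem_of_mem_sup hH2 hHO ?_ hzp
  exact sup_le le_sup_left (cnj_le_of_mem le_sup_left (Subgroup.mem_sup_right ho)) hz

variable (hH2 : IsPGroup p H) (hab : IsMulCommutative H) (hcl : IsExtremelyClosed H)
include hH2 hab hcl

/-- An invariant irreducible character of a p'-subgroup is trivial on its commutator with `H`. -/
theorem invariant_kills (hp2 : p ≠ 2) : ∀ (n : ℕ) (O : Subgroup G), Nat.card O ≤ n →
    ¬ p ∣ Nat.card O → H ≤ Subgroup.normalizer (O : Set G) → ∀ θ : IrrCharacter O,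
      Glauberman.IsInv H (θ : O → ℂ) → ∀ x : O, (x : G) ∈ ⁅O, H⁆ →
        (θ : O → ℂ) x = (θ : O → ℂ) 1 := by
  intro n
  induction n with
  | zero =>
    intro O hn
    have : 0 < Nat.card O := Nat.card_pos
    omega
  | succ n ih =>
    intro O hn hO hHO θ hθinv x hx
    classical
    obtain ⟨d₀, ρ, hρ, hρθ⟩ := θ.2
    suffices hle : ⁅O, H⁆ ≤ (MonoidHom.ker (ρ : O →* Module.End ℂ (Fin d₀ → ℂ))).map O.subtype by
      obtain ⟨y, hy, he⟩ := hle hx
      have hyx : y = x := Subtype.ext he
      subst hyx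
      have := (Chars.rep_eq_one_iff ρ y).1 (MonoidHom.mem_ker.1 hy)
      rwa [hρθ] at this
    rw [Subgroup.commutator_le]
    intro o ho h hh
    by_cases hc : ∀ z ∈ O, h * z = z * h
    · rw [commutatorElement_def, ← hc o ho, mul_inv_cancel_right, mul_inv_cancel]
      exact one_mem _
    have hnormO : ∀ y ∈ H, ∀ g ∈ O, y * g * y⁻¹ ∈ O := fun y hy g hg =>
      (Subgroup.mem_normalizer_iff.1 (hHO hy) g).1 hg
    have hcomm : o * h * o⁻¹ * h⁻¹ ∈ O := by
      have := O.mul_mem ho (hnormO h hh o⁻¹ (O.inv_mem ho))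
      simpa [mul_assoc] using this
    -- the cyclic setting
    set T := O ⊔ Subgroup.zpowers h with hT
    have hOT : O ≤ T := le_sup_left
    have hhT : h ∈ T := Subgroup.mem_sup_right (Subgroup.mem_zpowers h)
    let s : T := ⟨h, hhT⟩
    let G' : Subgroup T := O.subgroupOf T
    let S : Subgroup T := Subgroup.zpowers s
    let C : Subgroup T := G' ⊓ Subgroup.centralizer (S : Set T)
    haveI : Fintype T := Fintype.ofFinite _
    haveI : Fintype G' := Fintype.ofFinite _
    have hG'card : Nat.card G' = Nat.card O :=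
      Nat.card_congr (Subgroup.subgroupOfEquivOfLe hOT).toEquiv
    obtain ⟨k, hk⟩ := exists_orderOf_pow hH2 hh
    have hScard : Nat.card S = p ^ k := by
      rw [Nat.card_zpowers, Subgroup.orderOf_mk, hk]
    have hSH : ∀ t : T, t ∈ S → (t : G) ∈ H := by
      rintro _ ⟨i, rfl⟩
      rw [Subgroup.coe_zpow]
      exact H.zpow_mem hh i
    have hset : Glauberman.CycSetting G' S C := by
      refine Glauberman.cycSetting ?_ ?_ ?_ inferInstance rfl
      · intro t ht g hg
        exact hnormO t (hSH t ht) g hg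
      · rw [hG'card, hScard]
        exact Nat.Coprime.pow_right _ (hp.out.coprime_iff_not_dvd.2 hO).symm
      · apply Subgroup.map_injective T.subtype_injective
        rw [Subgroup.map_sup, Subgroup.map_subgroupOf_eq_of_le hOT, MonoidHom.map_zpowers,
          ← MonoidHom.range_eq_map, Subgroup.range_subtype]
        rfl
    haveI := hset.normal
    let θ' : IrrCharacter G' := ⟨_, Glauberman.isIrr_pullSub hOT θ⟩
    have hθ'inv : Glauberman.IsInv S (θ' : G' → ℂ) := fun t ht g g' hg =>
      hθinv t (hSH t ht) _ _ (congrArg Subtype.val hg)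
    obtain ⟨χh, hext, hd⟩ := Glauberman.exists_canonical hset.index_cop θ'
      (fun y g => hset.inv_all (Chars.irr_isClassFunction θ') hθ'inv y g)
    rw [hset.index_eq] at hd
    obtain ⟨β, ε, hε, hβ⟩ := hset.exists_beta hext hd (s := s) rfl
    have hεne : (ε : ℂ) ≠ 0 := by
      rcases hε with rfl | rfl <;> norm_num
    -- the centraliser in O
    set C₁ := O ⊓ Subgroup.centralizer ({h} : Set G) with hC₁
    have hmemC : ∀ t : T, t ∈ C ↔ (t : G) ∈ C₁ := by
      intro t
      simp only [C, hC₁, Subgroup.mem_inf, Subgroup.mem_centralizer_iff]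
      refine ⟨fun ⟨h1, h2⟩ => ⟨h1, fun z hz => ?_⟩, fun ⟨h1, h2⟩ => ⟨h1, ?_⟩⟩
      · rw [Set.mem_singleton_iff.1 hz]
        exact congrArg Subtype.val (h2 s (Subgroup.mem_zpowers s))
      · rintro _ ⟨i, rfl⟩
        exact (Commute.zpow_left (show Commute s t from Subtype.ext (h2 h rfl)) i).eq
    let e : C₁ ≃* C :=
      { toFun := fun z => ⟨⟨z, hOT z.2.1⟩, (hmemC _).2 z.2⟩
        invFun := fun z => ⟨(z : T), (hmemC _).1 z.2⟩
        left_inv := fun z => rfl
        right_inv := fun z => rfl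
        map_mul' := fun a b => rfl }
    let β₁ : IrrCharacter C₁ := ⟨_, Chars.isIrrCharacter_comp_mulEquiv e β.2⟩
    have hβinv : Glauberman.IsInv H (β₁ : C₁ → ℂ) := by
      intro y hy g g' hg
      have hyT : ∀ z ∈ H, ∀ t ∈ T, z * t * z⁻¹ ∈ T := by
        intro z hz t ht
        have hle : cnj z T ≤ T := by
          rw [hT, cnj, Subgroup.map_sup]
          refine sup_le_sup ?_ ?_
          · rintro _ ⟨w, hw, rfl⟩
            exact hnormO z hz w hw
          · rw [MonoidHom.map_zpowers, Subgroup.zpowers_le]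
            show z * h * z⁻¹ ∈ _
            rw [(commute_of_mem hab hz hh).eq, mul_inv_cancel_right]
            exact Subgroup.mem_zpowers h
        exact hle (conj_mem_cnj z ht)
      let σ : T ≃* T :=
        { toFun := fun t => ⟨y * t * y⁻¹, hyT y hy t t.2⟩
          invFun := fun t => ⟨y⁻¹ * t * y, by
            have := hyT y⁻¹ (H.inv_mem hy) t t.2
            rwa [inv_inv] at this⟩
          left_inv := fun t => Subtype.ext (by simp only; group)
          right_inv := fun t => Subtype.ext (by simp only; group)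
          map_mul' := fun a b => Subtype.ext (by simp only [Subgroup.coe_mul]; group) }
      let ψ : T → ℂ := fun t => (χh : T → ℂ) (σ t)
      have hψ : IsIrrCharacter T ψ := Chars.isIrrCharacter_comp_mulEquiv σ χh.2
      have hres : Clifford.resFun G' (χh : T → ℂ) = (θ' : G' → ℂ) := funext hext
      have hresψ : Clifford.resFun G' ψ = (θ' : G' → ℂ) := by
        funext z
        show (χh : T → ℂ) (σ z) = _
        have hz' : σ z ∈ G' := hnormO y hy (z : T) z.2
        rw [show (χh : T → ℂ) (σ z) = (θ' : G' → ℂ) ⟨σ z, hz'⟩ from hext ⟨_, hz'⟩]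
        exact hθinv y hy _ _ rfl
      obtain ⟨-, -, hgal⟩ := Clifford.gallagher χh.2 (hres ▸ θ'.2)
      obtain ⟨β₂, hβ₂⟩ := (hgal ψ hψ).1 (by
        rw [hresψ, hres, Chars.classInner_irr_self]
        exact one_ne_zero)
      have key : ∀ z z' : C₁, (z' : G) = y * z * y⁻¹ →
          (β : C → ℂ) (e z') = (β : C → ℂ) (e z) * (β₂ : T ⧸ G' → ℂ) (s : T ⧸ G') := by
        intro z z' hz
        have h1 : σ ((e z : T) * s) = (e z' : T) * s := by
          apply Subtype.ext
          show y * ((z : G) * h) * y⁻¹ = (z' : G) * h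
          rw [hz]
          calc y * ((z : G) * h) * y⁻¹ = y * z * y⁻¹ * (y * h * y⁻¹) := by group
            _ = y * z * y⁻¹ * h := by rw [(commute_of_mem hab hy hh).eq, mul_inv_cancel_right]
        have h2 := congrFun hβ₂ ((e z : T) * s)
        change (χh : T → ℂ) (σ ((e z : T) * s)) = (χh : T → ℂ) ((e z : T) * s) *
          (β₂ : T ⧸ G' → ℂ) (((e z : T) * s : T) : T ⧸ G') at h2
        rw [h1, hβ (e z') s rfl, hβ (e z) s rfl, QuotientGroup.mk_mul,
          (QuotientGroup.eq_one_iff _).2 (show (e z : T) ∈ G' from z.2.1), one_mul, mul_assoc] at h2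
        exact mul_left_cancel₀ hεne h2
      have hlam : (β₂ : T ⧸ G' → ℂ) (s : T ⧸ G') = 1 := by
        have := key 1 1 (by simp)
        rw [map_one] at this
        exact ((mul_eq_left₀ (Chars.irr_apply_one_ne_zero β)).1 this.symm)
      show (β : C → ℂ) (e g') = (β : C → ℂ) (e g)
      rw [key g g' hg, hlam, mul_one]
    have hC₁O : C₁ ≤ O := inf_le_left
    have hC₁card : Nat.card C₁ ≤ n := by
      have : Nat.card C₁ < Nat.card O :=
        lt_of_le_of_ne (Nat.le_of_dvd Nat.card_pos (Subgroup.card_dvd_of_le hC₁O)) fun he => hc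
          fun z hz => by
            have hz1 : z ∈ C₁ := (Subgroup.eq_of_le_of_card_ge hC₁O he.ge).symm ▸ hz
            exact (Subgroup.mem_centralizer_singleton_iff.1 hz1.2).symm
      omega
    have hHC₁ : H ≤ Subgroup.normalizer (C₁ : Set G) := by
      intro y hy
      refine mem_normalizer_of_cnj_eq (Subgroup.eq_of_le_of_card_ge ?_
        (le_of_eq (Subgroup.card_map_of_injective (MulAut.conj _).injective).symm))
      rintro _ ⟨z, hz, rfl⟩
      refine ⟨hnormO y hy z hz.1, Subgroup.mem_centralizer_singleton_iff.2 ?_⟩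
      exact (((commute_of_mem hab hy hh).mul_left
        (show Commute z h from Subgroup.mem_centralizer_singleton_iff.1 hz.2)).mul_left
        (commute_of_mem hab hy hh).inv_left).eq
    have hC₁p : ¬ p ∣ Nat.card C₁ := fun hd => hO (hd.trans (Subgroup.card_dvd_of_le hC₁O))
    have hkills := ih C₁ hC₁card hC₁p hHC₁ β₁ hβinv
    -- squares generate
    have hgen : Subgroup.zpowers (s * s) = S := by
      refine le_antisymm (Subgroup.zpowers_le.2 (mul_mem (Subgroup.mem_zpowers s)
        (Subgroup.mem_zpowers s))) (Subgroup.zpowers_le.2 ?_)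
      have hodd : Odd (orderOf s) := by
        rw [Subgroup.orderOf_mk, hk]
        exact (hp.out.odd_of_ne_two hp2).pow
      obtain ⟨j, hj⟩ := hodd
      refine ⟨j + 1, ?_⟩
      show (s * s) ^ ((j : ℤ) + 1) = s
      rw [show ((j : ℤ) + 1) = ((j + 1 : ℕ) : ℤ) by push_cast; ring, zpow_natCast, ← pow_two,
        ← pow_mul, show 2 * (j + 1) = orderOf s + 1 by omega, pow_succ, pow_orderOf_eq_one,
        one_mul]
    set E := (χh : T → ℂ) s with hE
    have hEval : E = (ε : ℂ) * (β : C → ℂ) 1 := by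
      rw [← hβ 1 s rfl, OneMemClass.coe_one, one_mul]
    have hterm : ∀ g : T, (χh : T → ℂ) (s * (g * s * g⁻¹)) = E := by
      intro g
      obtain ⟨o', ho', a, ha, hga⟩ := Subgroup.mem_sup_of_normal_left.1
        (hset.top ▸ Subgroup.mem_top g : g ∈ G' ⊔ S)
      have hconj : g * s * g⁻¹ = o' * s * o'⁻¹ := by
        obtain ⟨i, rfl⟩ := ha
        rw [← hga]
        show o' * s ^ i * s * (o' * s ^ i)⁻¹ = _
        group
      rw [hconj]
      obtain ⟨v, hv, hvp, hvc, w, hw, hwp, hwe⟩ :=
        exists_conj_mul hH2 hab hcl hh hh (o' : G)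
      have ho'O : (o' : G) ∈ O := ho'
      have hnh : nOf hH2 hab hcl (o' : G) * h * (nOf hH2 hab hcl (o' : G))⁻¹ = h := by
        have hnO : nOf hH2 hab hcl (o' : G) ∈ O :=
          O.mul_mem (O.inv_mem (mem_of_preg_mem_two_conj hH2 hHO ho'O
            (kOf_spec hH2 hab hcl _).1 (kOf_spec hH2 hab hcl _).2.1)) ho'O
        have h1 : nOf hH2 hab hcl (o' : G) * h * (nOf hH2 hab hcl (o' : G))⁻¹ * h⁻¹ ∈ H :=
          H.mul_mem ((Subgroup.mem_normalizer_iff.1 (nOf_mem hH2 hab hcl _) h).1 hh) (H.inv_mem hh)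
        have h2 : nOf hH2 hab hcl (o' : G) * h * (nOf hH2 hab hcl (o' : G))⁻¹ * h⁻¹ ∈ O := by
          have := O.mul_mem hnO (hnormO h hh _ (O.inv_mem hnO))
          simpa [mul_assoc] using this
        exact mul_inv_eq_one.1 (eq_one_of_preg_mem hH2 h1 (preg_orderOf_of_mem hO h2))
      rw [hnh] at hvc hwe
      have hvO : v ∈ O := mem_of_preg_mem_two_conj hH2 hHO ho'O hv hvp
      have hwO : w ∈ O := mem_of_preg_mem_two_conj hH2 hHO ho'O hw hwp
      have hvh : Commute h v := by
        obtain ⟨i, hi⟩ : s ∈ Subgroup.zpowers (s * s) := hgen.symm ▸ Subgroup.mem_zpowers s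
        have hi' : (h * h) ^ i = h := by
          have := congrArg Subtype.val hi
          simpa using this
        rw [← hi']
        exact hvc.zpow_left i
      have hvC₁ : v ∈ C₁ := ⟨hvO, Subgroup.mem_centralizer_singleton_iff.2 hvh.symm.eq⟩
      have hvD : v ∈ ⁅C₁, H⁆ := by
        set X := H ⊔ cnj (o' : G) H
        set K₁ := C₁ ⊓ X with hK₁
        have hHK₁ : H ≤ Subgroup.normalizer (K₁ : Set G) := by
          intro y hy
          refine mem_normalizer_of_cnj_eq (Subgroup.eq_of_le_of_card_ge ?_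
            (le_of_eq (Subgroup.card_map_of_injective (MulAut.conj _).injective).symm))
          rintro _ ⟨z, hz, rfl⟩
          exact ⟨(Subgroup.mem_normalizer_iff.1 (hHC₁ hy) z).1 hz.1,
            X.mul_mem (X.mul_mem (Subgroup.mem_sup_left hy) hz.2)
              (X.inv_mem (Subgroup.mem_sup_left hy))⟩
        have hK₁p : ¬ p ∣ Nat.card K₁ := fun hd =>
          hC₁p (hd.trans (Subgroup.card_dvd_of_le inf_le_left))
        have hcommK : ⁅K₁, H⁆ ≤ K₁ := by
          rw [Subgroup.commutator_le]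
          intro a ha b hb
          have := K₁.mul_mem ha
            ((Subgroup.mem_normalizer_iff.1 (hHK₁ hb) a⁻¹).1 (K₁.inv_mem ha))
          simpa [commutatorElement_def, mul_assoc] using this
        have hcop : (Nat.card H).Coprime (Nat.card (⁅K₁, H⁆ : Subgroup G)) := by
          obtain ⟨i, hi⟩ := hH2.exists_card_eq
          rw [hi]
          exact Nat.Coprime.pow_left _ (hp.out.coprime_iff_not_dvd.2
            fun hd => hK₁p (hd.trans (Subgroup.card_dvd_of_le hcommK)))
        have hsolv : Group.IsSolvable H := by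
          haveI := hH2.isNilpotent
          infer_instance
        have hzero : K₁ ⊓ Subgroup.centralizer (H : Set G) = ⊥ := by
          rw [Subgroup.eq_bot_iff_forall]
          rintro z ⟨hz, hzc⟩
          exact eq_one_of_preg_mem hH2
            (mem_of_mem_sup_cnj hcl hz.2 (Subgroup.centralizer_le_normalizer _ hzc))
            (preg_orderOf_of_mem hK₁p hz)
        have hK : ⁅K₁, H⁆ ⊔ (K₁ ⊓ Subgroup.centralizer (H : Set G)) = K₁ :=
          Coprime.commutator_sup_centralizer hHK₁ hcop (Or.inl hsolv)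
        rw [hzero, sup_bot_eq] at hK
        exact Subgroup.commutator_mono inf_le_left le_rfl (hK.symm ▸ ⟨hvC₁, hv⟩ : v ∈ ⁅K₁, H⁆)
      let wT : T := ⟨w, hOT hwO⟩
      have heq : wT * (s * (o' * s * o'⁻¹)) * wT⁻¹ = ((e ⟨v, hvC₁⟩ : C) : T) * (s * s) := by
        apply Subtype.ext
        show w * (h * ((o' : G) * h * (o' : G)⁻¹)) * w⁻¹ = v * (h * h)
        rw [hwe]
        exact hvc.eq
      rw [← Chars.irr_isClassFunction χh (s * (o' * s * o'⁻¹)) wT, heq, hβ _ _ hgen, hEval]
      congr 1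
      have := hkills ⟨v, hvC₁⟩ hvD
      show (β₁ : C₁ → ℂ) ⟨v, hvC₁⟩ = _
      rw [this]
      show (β : C → ℂ) (e 1) = _
      rw [map_one]
    have hsum := CharsElem.sum_irr_mul_conj χh s s
    rw [Finset.sum_congr rfl fun g _ => hterm g, Finset.sum_const, Finset.card_univ, nsmul_eq_mul,
      ← Nat.card_eq_fintype_card, ← hE, mul_assoc, mul_div_assoc] at hsum
    have hE0 : E ≠ 0 := by
      rw [hEval]
      exact mul_ne_zero hεne (Chars.irr_apply_one_ne_zero β)
    have h1 := mul_left_cancel₀ Chars.natCard_ne_zero hsum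
    rw [eq_div_iff (Chars.irr_apply_one_ne_zero χh)] at h1
    have hEd : (χh : T → ℂ) s = (χh : T → ℂ) 1 := (mul_left_cancel₀ hE0 h1).symm
    -- conclude
    obtain ⟨N', ρ', hρ', hρ'χ⟩ := χh.2
    have hs1 : ρ' s = 1 := (Chars.rep_eq_one_iff ρ' s).2 (by rw [hρ'χ]; exact hEd)
    let oT : T := ⟨o, hOT ho⟩
    have hcm : (oT * s * oT⁻¹ * s⁻¹ : T) ∈ G' := hcomm
    have hs1' : ρ' s⁻¹ = 1 := by
      have := map_mul ρ' s⁻¹ s
      rw [inv_mul_cancel, map_one, hs1, mul_one] at this
      exact this.symm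
    have h3 : ρ' (oT * s * oT⁻¹ * s⁻¹) = 1 := by
      rw [map_mul, map_mul, map_mul, hs1, hs1', mul_one, mul_one, ← map_mul, mul_inv_cancel,
        map_one]
    have h4 := (Chars.rep_eq_one_iff ρ' _).1 h3
    rw [hρ'χ] at h4
    have h5 : (θ : O → ℂ) ⟨o * h * o⁻¹ * h⁻¹, hcomm⟩ = (θ : O → ℂ) 1 := by
      have e1 := hext ⟨_, hcm⟩
      have e2 := hext 1
      simp only [OneMemClass.coe_one] at e2
      rw [h4, e2] at e1
      exact e1.symm
    refine ⟨⟨o * h * o⁻¹ * h⁻¹, hcomm⟩, MonoidHom.mem_ker.2 ?_, rfl⟩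
    rw [Chars.rep_eq_one_iff, hρθ]
    exact h5

/-- An extremely closed abelian p-subgroup, p odd, has no fixed points in `[O, H]`. -/
theorem commutator_inf_centralizer (hp2 : p ≠ 2) (O : Subgroup G) (hO : ¬ p ∣ Nat.card O)
    (hHO : H ≤ Subgroup.normalizer (O : Set G)) :
    ⁅O, H⁆ ⊓ Subgroup.centralizer (H : Set G) = ⊥ := by
  classical
  cases nonempty_fintype G
  set C := O ⊓ Subgroup.centralizer (H : Set G) with hC
  have hcommO : ⁅O, H⁆ ≤ O := by
    rw [Subgroup.commutator_le]
    intro a ha b hb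
    have := O.mul_mem ha ((Subgroup.mem_normalizer_iff.1 (hHO hb) a⁻¹).1 (O.inv_mem ha))
    simpa [commutatorElement_def, mul_assoc] using this
  have hcop : (Nat.card H).Coprime (Nat.card (⁅O, H⁆ : Subgroup G)) := by
    obtain ⟨i, hi⟩ := hH2.exists_card_eq
    rw [hi]
    exact Nat.Coprime.pow_left _ (hp.out.coprime_iff_not_dvd.2
      fun hd => hO (hd.trans (Subgroup.card_dvd_of_le hcommO)))
  have hsolv : Group.IsSolvable H := by
    haveI := hH2.isNilpotent
    infer_instance
  have hdecomp : ∀ x : O, ∃ d ∈ ⁅O, H⁆, ∃ c ∈ C, (x : G) = d * c := fun x => by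
    obtain ⟨d, hd, c, hc, he⟩ :=
      Coprime.mem_commutator_mul_centralizer hHO hcop (Or.inl hsolv) x.2
    exact ⟨d, hd, c, hc, he⟩
  have hCO : C ≤ O := inf_le_left
  -- restriction of invariant characters
  have hkill := fun θ hθ => invariant_kills hH2 hab hcl hp2 _ O le_rfl hO hHO θ hθ
  have hres : ∀ θ : {θ : IrrCharacter O // Glauberman.IsInv H (θ : O → ℂ)},
      IsIrrCharacter C (fun c => (θ.1 : O → ℂ) ⟨c, hCO c.2⟩) := by
    rintro ⟨θ, hθ⟩
    obtain ⟨n, ρ, hρ, hρθ⟩ := θ.2
    let ι : C →* O := Subgroup.inclusion hCO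
    let σ : Representation ℂ C (Fin n → ℂ) := ρ.comp ι
    have hfac : ∀ x : O, ∃ c : C, ρ x = σ c := by
      intro x
      obtain ⟨d, hd, c, hc, he⟩ := hdecomp x
      refine ⟨⟨c, hc⟩, ?_⟩
      have hx : x = (⟨d, hcommO hd⟩ : O) * ι ⟨c, hc⟩ := Subtype.ext he
      have hd1 : ρ (⟨d, hcommO hd⟩ : O) = 1 := by
        rw [Chars.rep_eq_one_iff, hρθ]
        exact hkill θ hθ _ hd
      rw [hx, map_mul, hd1, one_mul]
      rfl
    have hσ : σ.IsIrreducible := by
      haveI : IsSimpleOrder (Subrepresentation ρ) := hρ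
      let f : Subrepresentation σ → Subrepresentation ρ := fun W =>
        ⟨W.toSubmodule, fun x v hv => by
          obtain ⟨c, hc⟩ := hfac x
          rw [hc]
          exact W.apply_mem_toSubmodule c hv⟩
      obtain ⟨a, b, hne⟩ := (inferInstance : Nontrivial (Subrepresentation ρ))
      let g : Subrepresentation ρ → Subrepresentation σ := fun W =>
        ⟨W.toSubmodule, fun c v hv => W.apply_mem_toSubmodule (ι c) hv⟩
      haveI : Nontrivial (Subrepresentation σ) := ⟨g a, g b, fun h => hne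
        (Subrepresentation.toSubmodule_injective (congrArg (Subrepresentation.toSubmodule (ρ := σ)) h))⟩
      refine ⟨fun W => ?_⟩
      rcases eq_bot_or_eq_top (f W) with h | h
      · left
        exact Subrepresentation.toSubmodule_injective
          (congrArg (Subrepresentation.toSubmodule (ρ := ρ)) h)
      · right
        exact Subrepresentation.toSubmodule_injective
          (congrArg (Subrepresentation.toSubmodule (ρ := ρ)) h)
    refine ⟨n, σ, hσ, ?_⟩
    funext c
    show ρ.character (ι c) = _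
    rw [hρθ]
    rfl
  let r : {θ : IrrCharacter O // Glauberman.IsInv H (θ : O → ℂ)} → IrrCharacter C :=
    fun θ => ⟨_, hres θ⟩
  have hval : ∀ (θ : {θ : IrrCharacter O // Glauberman.IsInv H (θ : O → ℂ)}) (x : O),
      ∀ c : C, ∀ d : O, (d : G) ∈ ⁅O, H⁆ → x = d * ⟨c, hCO c.2⟩ →
        (θ.1 : O → ℂ) x = (r θ : C → ℂ) c := by
    intro θ x c d hd hx
    obtain ⟨n, ρ, hρ, hρθ⟩ := θ.1.2
    show _ = (θ.1 : O → ℂ) ⟨c, hCO c.2⟩
    rw [← hρθ]
    have hd1 : ρ d = 1 := by
      rw [Chars.rep_eq_one_iff, hρθ]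
      exact hkill θ.1 θ.2 _ hd
    simp only [Representation.character, hx, map_mul, hd1, one_mul]
  have hinj : Function.Injective r := by
    intro θ θ' he
    refine Subtype.ext (Subtype.ext (funext fun x => ?_))
    obtain ⟨d, hd, c, hc, hx⟩ := hdecomp x
    rw [hval θ x ⟨c, hc⟩ ⟨d, hcommO hd⟩ hd (Subtype.ext hx),
      hval θ' x ⟨c, hc⟩ ⟨d, hcommO hd⟩ hd (Subtype.ext hx), he]
  have hcount := Glauberman.card_invariant_eq hsolv
    (fun s hs => Glauberman.normalises_of_mem fun g hg =>
      (Subgroup.mem_normalizer_iff.1 (hHO hs) g).1 hg)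
    (show (Nat.card O).Coprime (Nat.card H) by
      obtain ⟨i, hi⟩ := hH2.exists_card_eq
      rw [hi]
      exact Nat.Coprime.pow_right _ (hp.out.coprime_iff_not_dvd.2 hO).symm) hC
  have hsurj : Function.Surjective r :=
    ((Nat.bijective_iff_injective_and_card r).2 ⟨hinj, hcount⟩).2
  rw [Subgroup.eq_bot_iff_forall]
  rintro z ⟨hzD, hzC⟩
  have hz : z ∈ C := ⟨hcommO hzD, hzC⟩
  haveI : Fintype C := Fintype.ofFinite _
  have hconj : IsConj (⟨z, hz⟩ : C) 1 := by
    rw [Chars.isConj_iff_irr]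
    intro b
    obtain ⟨θ, rfl⟩ := hsurj b
    show (θ.1 : O → ℂ) ⟨z, hCO hz⟩ = (θ.1 : O → ℂ) ⟨(1 : C), _⟩
    rw [hkill θ.1 θ.2 ⟨z, hCO hz⟩ hzD]
    rfl
  exact congrArg Subtype.val (isConj_one_left.1 hconj)

end Cfsg.Agent.Lib.ExtClosedP
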