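import Mathlib
import Cfsg.Agent.Lib.ExtremelyClosedP.Characters

/-!
# Extremely closed abelian p-subgroups factor the group

`G = N(H) O_{p'}(G)`, p odd, for an extremely closed abelian p-subgroup `H`.
-/

set_option autoImplicit false
set_option maxHeartbeats 400000
set_option linter.style.haveILetI false

namespace Cfsg.Agent.Lib.ExtClosedP

open Cfsg
open Cfsg.Agent.Lib

universe u

variable {G : Type u} [Group G] [Finite G] {H : Subgroup G} {p : ℕ} [hp : Fact p.Prime]

theorem coe_mem_normalizer {Y : Subgroup G} (hHY : H ≤ Y) {x : Y}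
    (hx : x ∈ Subgroup.normalizer ((H.subgroupOf Y : Subgroup Y) : Set Y)) :
    (x : G) ∈ Subgroup.normalizer (H : Set G) := by
  refine mem_normalizer_of_cnj_eq ?_
  have h := congrArg (Subgroup.map Y.subtype) (cnj_of_mem_normalizer hx)
  rwa [← cnj_map, Subgroup.map_subgroupOf_eq_of_le hHY] at h

theorem oc_le_pPrimeCore {Y : Subgroup G} (hY : Y.Normal) : oc p Y ≤ pPrimeCore p G := by
  haveI := PSolvable.pPrimeCore_characteristic (p := p) (G := Y)
  exact PSolvable.le_pPrimeCore (hp.out.coprime_iff_not_dvd.2 (oc_preg Y)).symm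

theorem comap_pPrimeCore_central (hO : pPrimeCore p G = ⊥) {z : G} (hz : orderOf z = p)
    (hzc : z ∈ Subgroup.center G) [(Subgroup.zpowers z).Normal] :
    (pPrimeCore p (G ⧸ Subgroup.zpowers z)).comap (QuotientGroup.mk' (Subgroup.zpowers z)) =
      Subgroup.zpowers z := by
  classical
  set Z := Subgroup.zpowers z with hZ
  have hZcard : Nat.card Z = p := by rw [hZ, Nat.card_zpowers, hz]
  set W := (pPrimeCore p (G ⧸ Z)).comap (QuotientGroup.mk' Z) with hW
  obtain ⟨m, hm, hcard⟩ : ∃ m, Nat.Coprime m p ∧ Nat.card W = p * m :=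
    ⟨_, PSolvable.pPrimeCore_coprime, by rw [hW, PSolvable.card_comap_mk', hZcard]⟩
  have hZW : Z ≤ W := QuotientGroup.le_comap_mk' Z _
  have hZWcard : Nat.card (Z.subgroupOf W) = p := by
    rw [Nat.card_congr (Subgroup.subgroupOfEquivOfLe hZW).toEquiv, hZcard]
  have hindex : (Z.subgroupOf W).index = m := by
    have h1 := (Z.subgroupOf W).card_mul_index
    rw [hZWcard, hcard] at h1
    exact Nat.eq_of_mul_eq_mul_left hp.out.pos h1
  obtain ⟨K, hK⟩ := Subgroup.exists_right_complement'_of_coprime (N := Z.subgroupOf W)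
    (by rw [hZWcard, hindex]; exact hm.symm)
  have hKcard : Nat.card K = m := by
    have h1 := hK.card_mul
    rw [hZWcard, hcard] at h1
    exact Nat.eq_of_mul_eq_mul_left hp.out.pos h1
  -- `K` consists of the p'-elements of `W`
  have hmem : ∀ x : W, x ∈ K ↔ ¬ p ∣ orderOf x := by
    intro x
    have hKreg : ∀ k ∈ K, ¬ p ∣ orderOf k := fun k hk h =>
      hp.out.coprime_iff_not_dvd.1 hm.symm (hKcard ▸ h.trans (Subgroup.orderOf_dvd_natCard K hk))
    refine ⟨fun hx => hKreg x hx, fun hx => ?_⟩
    obtain ⟨⟨⟨c, hc⟩, ⟨k, hk⟩⟩, hck⟩ := hK.2 x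
    simp only at hck
    have hcc : ∀ w : W, Commute c w := fun w => Subtype.ext
      ((Subgroup.mem_center_iff.1 ((Subgroup.zpowers_le.2 hzc) (Subgroup.mem_subgroupOf.1 hc)) w).symm)
    have hxk : Commute x k⁻¹ := by
      rw [← hck]
      exact (hcc k⁻¹).mul_left ((Commute.refl k).inv_right)
    have hc' : c = x * k⁻¹ := by rw [← hck, mul_inv_cancel_right]
    have h1 : ¬ p ∣ orderOf c := by
      intro h
      have h2 := h.trans (hc' ▸ hxk.orderOf_mul_dvd_mul_orderOf)
      rcases hp.out.dvd_mul.1 h2 with h3 | h3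
      · exact hx h3
      · exact hKreg k hk (orderOf_inv k ▸ h3)
    have h4 : orderOf c ∣ p := hZWcard ▸ Subgroup.orderOf_dvd_natCard _ hc
    rcases (Nat.dvd_prime hp.out).1 h4 with h5 | h5
    · rw [← hck, orderOf_eq_one_iff.1 h5, one_mul]
      exact hk
    · exact absurd (h5 ▸ dvd_refl p) h1
  set K' := K.map W.subtype with hK'
  have hnorm : K'.Normal := by
    refine ⟨fun x hx a => ?_⟩
    obtain ⟨⟨k, hkW⟩, hk, rfl⟩ := hx
    have hconjW : a * k * a⁻¹ ∈ W := (inferInstance : W.Normal).conj_mem k hkW a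
    refine ⟨⟨_, hconjW⟩, (hmem _).2 ?_, rfl⟩
    have h2 := (hmem _).1 hk
    rw [Subgroup.orderOf_mk] at h2 ⊢
    rwa [show a * k * a⁻¹ = MulAut.conj a k from rfl, MulEquiv.orderOf_eq]
  have hK'card : Nat.card K' = m := by
    rw [hK', Subgroup.card_map_of_injective W.subtype_injective, hKcard]
  have hle : K' ≤ pPrimeCore p G := PSolvable.le_pPrimeCore (by rw [hK'card]; exact hm)
  rw [hO, le_bot_iff] at hle
  rw [hle, Subgroup.card_bot] at hK'card
  exact (Subgroup.eq_of_le_of_card_ge hZW (by rw [hcard, ← hK'card, mul_one, hZcard])).symm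

theorem factorization_odd (hp2 : p ≠ 2) : ∀ (n : ℕ) (G : Type u) [Group G] [Finite G] (H : Subgroup G),
    Nat.card G ≤ n → IsPGroup p H → IsMulCommutative H → IsExtremelyClosed H →
      Subgroup.normalizer (H : Set G) ⊔ pPrimeCore p G = ⊤ := by
  intro n
  induction n with
  | zero =>
    intro G _ _ H hn
    have : 0 < Nat.card G := Nat.card_pos
    omega
  | succ n ih =>
    intro G _ _ H hn hH2 hab hcl
    classical
    set N := Subgroup.normalizer (H : Set G) with hNdef
    by_contra hne
    have hH1 : H ≠ ⊥ := by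
      intro h
      subst h
      refine hne (eq_top_iff.2 fun x _ => Subgroup.mem_sup_left ?_)
      exact mem_normalizer_of_cnj_eq (Subgroup.map_bot _)
    -- proper overgroups factor
    have hfac : FactorsBelow p H := by
      intro Y hY hHY y hy
      have hcard : Nat.card Y ≤ n := by
        have : Nat.card Y < Nat.card G := lt_of_le_of_ne (Subgroup.card_le_card_group Y)
          (fun h => hY (Subgroup.eq_top_of_card_eq Y h))
        omega
      have hab' : IsMulCommutative (H.subgroupOf Y) := ⟨⟨fun a b => Subtype.ext (Subtype.ext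
        (commute_of_mem hab (Subgroup.mem_subgroupOf.1 a.2) (Subgroup.mem_subgroupOf.1 b.2)).eq)⟩⟩
      have h := ih Y (H.subgroupOf Y) hcard
        (hH2.of_equiv (Subgroup.subgroupOfEquivOfLe hHY).symm) hab'
        (isExtremelyClosed_subgroupOf hcl hHY)
      haveI := PSolvable.pPrimeCore_characteristic (p := p) (G := Y)
      obtain ⟨m, hm, o, ho, he⟩ := Subgroup.mem_sup_of_normal_right.1
        (h ▸ Subgroup.mem_top (⟨y, hy⟩ : Y))
      exact ⟨m, m.2, coe_mem_normalizer hHY hm, o, ⟨o, ho, rfl⟩, (congrArg Subtype.val he).symm⟩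
    -- the conjugates generate
    have hgenN : Subgroup.normalClosure (H : Set G) = ⊤ := by
      by_contra hne0
      set G₀ := Subgroup.normalClosure (H : Set G) with hG₀
      have hHG₀ : H ≤ G₀ := Subgroup.le_normalClosure
      refine hne (eq_top_iff.2 fun g _ => ?_)
      have hk : kOf hH2 hab hcl g ∈ G₀ := kOf_mem_of_mem hH2 hab hcl hHG₀ (by
        rintro _ ⟨h, hh, rfl⟩
        exact (Subgroup.normalClosure_normal (s := (H : Set G))).conj_mem h (hHG₀ hh) g)
      obtain ⟨m, -, hmN, o, ho, he⟩ := hfac G₀ hne0 hHG₀ _ hk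
      rw [← kOf_mul_nOf hH2 hab hcl g, he]
      exact mul_mem (mul_mem (Subgroup.mem_sup_left hmN)
        (Subgroup.mem_sup_right (oc_le_pPrimeCore Subgroup.normalClosure_normal ho)))
        (Subgroup.mem_sup_left (nOf_mem hH2 hab hcl g))
    -- passing to a quotient
    have hquot : ∀ (K : Subgroup G) [K.Normal], K ≠ ⊥ → pPrimeCore p (G ⧸ K) = ⊥ →
        ∀ g : G, g ∈ N ⊔ K := by
      intro K _ hK hO g
      have hcard : Nat.card (G ⧸ K) ≤ n := by
        have h1 := K.card_eq_card_quotient_mul_card_subgroup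
        have h2 : 1 < Nat.card K := Subgroup.one_lt_card_iff_ne_bot K |>.2 hK
        have h3 : 0 < Nat.card (G ⧸ K) := Nat.card_pos
        nlinarith
      have hab' : IsMulCommutative (H.map (QuotientGroup.mk' K)) := ⟨⟨fun a b => Subtype.ext (by
        obtain ⟨a', ha', ha⟩ := a.2
        obtain ⟨b', hb', hb⟩ := b.2
        show (a : G ⧸ K) * b = b * a
        rw [← ha, ← hb, ← map_mul, ← map_mul, (commute_of_mem hab ha' hb').eq])⟩⟩
      have h := ih (G ⧸ K) (H.map (QuotientGroup.mk' K)) hcard (hH2.map _) hab'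
        (isExtremelyClosed_map_mk' hH2 hab hcl K)
      rw [hO, sup_bot_eq] at h
      have hle : cnj g H ≤ H ⊔ K := by
        have hmem : QuotientGroup.mk' K g ∈
            Subgroup.normalizer ((H.map (QuotientGroup.mk' K) : Subgroup (G ⧸ K)) : Set (G ⧸ K)) :=
          h ▸ Subgroup.mem_top _
        have h1 := cnj_of_mem_normalizer hmem
        rw [cnj_map] at h1
        calc cnj g H ≤ ((cnj g H).map (QuotientGroup.mk' K)).comap (QuotientGroup.mk' K) :=
              Subgroup.le_comap_map _ _
          _ = H ⊔ K := by rw [h1, Subgroup.comap_map_eq, QuotientGroup.ker_mk']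
      rw [← kOf_mul_nOf hH2 hab hcl g]
      refine mul_mem ?_ (Subgroup.mem_sup_left (nOf_mem hH2 hab hcl g))
      exact sup_le_sup_right Subgroup.le_normalizer K
        (kOf_mem_of_mem hH2 hab hcl le_sup_left hle)
    have hO : pPrimeCore p G = ⊥ := by
      by_contra hO
      haveI := PSolvable.pPrimeCore_characteristic (p := p) (G := G)
      refine hne (eq_top_iff.2 fun g _ => hquot (pPrimeCore p G) hO ?_ g)
      exact PSolvable.pPrimeCore_quotient_eq_bot
    have hN : N ≠ ⊤ := fun h => hne (by rw [h, top_sup_eq])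
    have hcenter : ∀ h ∈ H, h ∈ Subgroup.center G → h = 1 := by
      intro h hh hc
      by_contra h1
      obtain ⟨e, he⟩ := exists_orderOf_pow hH2 hh
      rcases e with - | e
      · exact h1 (orderOf_eq_one_iff.1 (by simpa using he))
      set z := h ^ p ^ e with hz
      have hz2 : orderOf z = p := by
        rw [hz, orderOf_pow' _ (pow_ne_zero _ hp.out.ne_zero), he, pow_succ,
          Nat.gcd_eq_right (dvd_mul_right _ _), Nat.mul_div_cancel_left _ (pow_pos hp.out.pos _)]
      have hzc : z ∈ Subgroup.center G := pow_mem hc _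
      have hzH : Subgroup.zpowers z ≤ H := Subgroup.zpowers_le.2 (pow_mem hh _)
      haveI : (Subgroup.zpowers z).Normal := ⟨fun x hx g => by
        rw [Subgroup.mem_center_iff.1 ((Subgroup.zpowers_le.2 hzc) hx) g, mul_inv_cancel_right]
        exact hx⟩
      have hOq : pPrimeCore p (G ⧸ Subgroup.zpowers z) = ⊥ := by
        have h2 := congrArg (Subgroup.map (QuotientGroup.mk' (Subgroup.zpowers z)))
          (comap_pPrimeCore_central hO hz2 hzc)
        rwa [Subgroup.map_comap_eq_self_of_surjective (QuotientGroup.mk'_surjective _),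
          QuotientGroup.map_mk'_self] at h2
      refine hN (eq_top_iff.2 fun g _ => ?_)
      have := hquot (Subgroup.zpowers z) (by
        rw [Ne, Subgroup.zpowers_eq_bot]
        intro h0
        rw [h0, orderOf_one] at hz2
        exact hp.out.ne_one hz2.symm) hOq g
      rwa [sup_eq_left.2 (hzH.trans Subgroup.le_normalizer)] at this
    exact false_of_minimal hH2 hab hcl hp2 hH1 hfac hcenter hgenN hO

end Cfsg.Agent.Lib.ExtClosedP
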