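import Mathlib
import Cfsg.Agent.Lib.ExtremelyClosedP.Main
import Cfsg.Agent.Lib.ExtremelyClosedP.FixedPoints

/-!
# The normal closure of an extremely closed abelian p-subgroup, p odd
-/

set_option autoImplicit false
set_option linter.unusedSectionVars false

namespace Cfsg.Agent.Lib.ExtClosedP

open Cfsg
open Cfsg.Agent.Lib
open scoped commutatorElement

universe u

variable {G : Type u} [Group G] [Finite G] {p : ℕ} [hp : Fact p.Prime] {H : Subgroup G}

theorem normalClosure_inf_normalizer (hH2 : IsPGroup p H) (hab : IsMulCommutative H)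
    (hcl : IsExtremelyClosed H) (hp2 : p ≠ 2) :
    Subgroup.normalClosure (H : Set G) ⊓ Subgroup.normalizer (H : Set G) = H := by
  haveI := PSolvable.pPrimeCore_characteristic (p := p) (G := G)
  set O := pPrimeCore p G with hO
  have hOn : O.Normal := inferInstance
  have hOp : ¬ p ∣ Nat.card O := PSolvable.pPrimeCore_not_dvd
  have hfac := factorization_odd hp2 (Nat.card G) G H le_rfl hH2 hab hcl
  have hHO : H ≤ Subgroup.normalizer (O : Set G) := fun h _ => by
    rw [Subgroup.normalizer_eq_top]; exact Subgroup.mem_top h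
  have hD : ⁅O, H⁆ ≤ O := Subgroup.commutator_le_left _ _
  have hmove : ∀ n ∈ Subgroup.normalizer (H : Set G), ∀ d ∈ ⁅O, H⁆, n * d * n⁻¹ ∈ ⁅O, H⁆ := by
    intro n hn d hd
    have hle : ⁅O, H⁆.map (MulAut.conj n).toMonoidHom ≤ ⁅O, H⁆ := by
      rw [Subgroup.map_commutator]
      refine Subgroup.commutator_mono ?_ (le_of_eq (cnj_of_mem_normalizer hn))
      rintro _ ⟨o, ho, rfl⟩
      exact hOn.conj_mem o ho n
    exact hle ⟨d, hd, rfl⟩
  refine le_antisymm ?_ (le_inf Subgroup.le_normalClosure Subgroup.le_normalizer)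
  rintro x ⟨hx, hxN⟩
  have hsub : Subgroup.normalClosure (H : Set G) ≤ H ⊔ ⁅O, H⁆ := by
    refine (Subgroup.closure_le _).2 fun y hy => ?_
    obtain ⟨h, hh, hc⟩ := Group.mem_conjugatesOfSet_iff.1 hy
    obtain ⟨g, rfl⟩ := isConj_iff.1 hc
    have hg : g ∈ Subgroup.normalizer (H : Set G) ⊔ O := hfac.symm ▸ Subgroup.mem_top g
    obtain ⟨n, hn, o, ho, rfl⟩ := Subgroup.mem_sup_of_normal_right.1 hg
    have e : n * o * h * (n * o)⁻¹ = n * ⁅o, h⁆ * n⁻¹ * (n * h * n⁻¹) := by
      rw [commutatorElement_def]; group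
    rw [e]
    exact mul_mem (Subgroup.mem_sup_right (hmove n hn _ (Subgroup.commutator_mem_commutator ho hh)))
      (Subgroup.mem_sup_left ((Subgroup.mem_normalizer_iff.1 hn h).1 hh))
  have hHD : H ≤ Subgroup.normalizer ((⁅O, H⁆ : Subgroup G) : Set G) := by
    intro h hh
    refine mem_normalizer_of_cnj_eq (Subgroup.eq_of_le_of_card_ge ?_
      (le_of_eq (Subgroup.card_map_of_injective (MulAut.conj _).injective).symm))
    rintro _ ⟨d, hd, rfl⟩
    exact hmove h (Subgroup.le_normalizer hh) d hd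
  have hx' : x ∈ ((H ⊔ ⁅O, H⁆ : Subgroup G) : Set G) := hsub hx
  rw [Subgroup.coe_mul_of_left_le_normalizer_right H _ hHD] at hx'
  obtain ⟨h, hh, d, hd, rfl⟩ := hx'
  have hdN : d ∈ Subgroup.normalizer (H : Set G) :=
    (Subgroup.mul_mem_cancel_left _ (Subgroup.le_normalizer hh)).1 hxN
  have hdC : d ∈ Subgroup.centralizer (H : Set G) := by
    rw [Subgroup.mem_centralizer_iff]
    intro a ha
    have h1 : d * a * d⁻¹ * a⁻¹ ∈ H :=
      H.mul_mem ((Subgroup.mem_normalizer_iff.1 hdN a).1 ha) (H.inv_mem ha)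
    have h2 : d * a * d⁻¹ * a⁻¹ ∈ O := by
      have := O.mul_mem (hD hd) (hOn.conj_mem _ (O.inv_mem (hD hd)) a)
      simpa [mul_assoc] using this
    exact (mul_inv_eq_iff_eq_mul.1 (mul_inv_eq_one.1
      (eq_one_of_preg_mem hH2 h1 (preg_orderOf_of_mem hOp h2)))).symm
  have hd1 : d ∈ ⁅O, H⁆ ⊓ Subgroup.centralizer (H : Set G) := ⟨hd, hdC⟩
  rw [commutator_inf_centralizer hH2 hab hcl hp2 O hOp hHO, Subgroup.mem_bot] at hd1
  rw [hd1]
  simpa using hh

end Cfsg.Agent.Lib.ExtClosedP
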